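import Groth.Agent.Redsub.H631.SmallRep
import Groth.Agent.RedSub.H638.Small
import Groth.Agent.RedSub.H630.ChevDefs
import Groth.Agent.RedSub.H507.Input

/-!
# Existence of integral representations of a reduced root datum

* `exists_intRep`: existence of the structure `IntRep`;
* `nonempty_chevMat`: existence of the structure `ChevMat`.
-/

set_option autoImplicit false

namespace Groth.Agent.Redsub.H631.IntRepEx

open Groth.Agent.Redsub.H631.SmallRep

variable {idx M N : Type} [AddCommGroup M] [AddCommGroup N]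

/-- A generating small set exists. -/
theorem exists_smallSet [Finite idx] (P : RootPairing idx ℤ M N) [P.IsReduced] [Module.Finite ℤ M] :
    ∃ Λ : SmallSet P, AddSubgroup.closure (Λ.L : Set M) = ⊤ := by
  obtain ⟨L, h1, h2, h3⟩ := Groth.Agent.RedSub.H638.Small.exists_small_finset (P := P)
  exact ⟨⟨L, h1, h2⟩, h3⟩

section

variable {P : RootPairing idx ℤ M N} {b : P.Base} {Λ : SmallSet P}

/-- divided powers -/
noncomputable def dvE (b : P.Base) (Λ : SmallSet P) (ε : ℤ) (i : b.support) :
    ℕ → Matrix (idxSet Λ b) (idxSet Λ b) ℤ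
  | 0 => open Classical in 1
  | 1 => opE b Λ ε i
  | 2 => opE2 b Λ ε i
  | _ => 0

open Classical in
lemma opE_cube {ε : ℤ} (hε : ε = 1 ∨ ε = -1) (i : b.support) : opE b Λ ε i ^ 3 = 0 := by
  rw [pow_succ', pow_two, opE_mul_self hε, mul_smul_comm, opE_mul_opE2 hε, smul_zero]

open Classical in
lemma dvE_pow {ε : ℤ} (hε : ε = 1 ∨ ε = -1) (i : b.support) (n : ℕ) :
    (n.factorial : ℤ) • dvE b Λ ε i n = opE b Λ ε i ^ n := by
  match n with
  | 0 => simp [dvE]
  | 1 => simp [dvE]
  | 2 => simp [dvE, pow_two, opE_mul_self hε]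
  | (n + 3) => rw [dvE, smul_zero, pow_add, opE_cube hε, mul_zero]; all_goals simp

lemma wt_closure (hΛ : AddSubgroup.closure (Λ.L : Set M) = ⊤) :
    AddSubgroup.closure (Set.range fun k : idxSet Λ b => wt' (k : M ⊕ b.support)) = ⊤ := by
  rw [eq_top_iff, ← hΛ]
  apply AddSubgroup.closure_mono
  intro m hm
  exact ⟨⟨Sum.inl m, (inl_mem Λ m).2 hm⟩, rfl⟩

/-- every simple coroot is non-zero on some element of a generating small set -/
lemma exists_ne_zero (hΛ : AddSubgroup.closure (Λ.L : Set M) = ⊤) (i : b.support) :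
    ∃ m ∈ Λ.L, cc P m i ≠ 0 := by
  by_contra! h
  have h1 : ∀ m ∈ AddSubgroup.closure (Λ.L : Set M), cc P m i = 0 := by
    intro m hm
    induction hm using AddSubgroup.closure_induction with
    | mem x hx => exact h x hx
    | zero => exact cc_zero _
    | add x y _ _ hx hy => rw [cc_add, hx, hy, add_zero]
    | neg x _ hx => rw [cc_neg, hx, neg_zero]
  have h2 := h1 (P.root i) (by rw [hΛ]; trivial)
  rw [cc_same] at h2
  omega

open Classical in
lemma exists_one (hΛ : AddSubgroup.closure (Λ.L : Set M) = ⊤) {ε : ℤ} (hε : ε = 1 ∨ ε = -1)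
    (i : b.support) : ∃ k l, opE b Λ ε i k l = 1 := by
  obtain ⟨m, hm, hm0⟩ := exists_ne_zero hΛ i
  -- we may assume `ε * cc m i < 0`
  obtain ⟨m, hm, hm0⟩ : ∃ m ∈ Λ.L, ε * cc P m i < 0 := by
    by_cases h : ε * cc P m i < 0
    · exact ⟨m, hm, h⟩
    · refine ⟨P.reflection i m, Λ.stable _ hm _, ?_⟩
      have h1 : cc P (P.reflection i m) i = -cc P m i := by
        rw [reflection_eq, cc_sub]
        have : cc P (cc P m i • P.root i) i = cc P m i * 2 := by
          rw [cc_eps, cc_same]
        rw [this]; ring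
      rw [h1]
      have : ε * cc P m i ≠ 0 := by
        rcases hε with rfl | rfl <;> omega
      have h3 : ε * -cc P m i = -(ε * cc P m i) := by ring
      omega
  by_cases h1 : m = -(ε • P.root i)
  · have hi : P.root i ∈ Λ.L := by
      rw [← neg_eps_mem hε, ← h1]; exact hm
    refine ⟨⟨Sum.inr i, (inr_mem Λ i).2 hi⟩, ⟨Sum.inl m, (inl_mem Λ m).2 hm⟩, ?_⟩
    rw [opE, mono_apply]
    simp [tt, ct, h1]
  · have h2 : m ≠ ε • P.root i := by
      rintro rfl
      rw [cc_eps, cc_same] at hm0
      rcases hε with rfl | rfl <;> omega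
    have h3 : P.root i ≠ m := by
      rintro rfl
      rcases hε with rfl | rfl
      · exact h2 (one_smul _ _).symm
      · apply h1
        simp
    have h4 : P.root i ≠ -m := by
      intro h
      rcases hε with rfl | rfl
      · apply h1
        rw [one_smul, h, neg_neg]
      · apply h2
        rw [neg_smul, one_smul, h, neg_neg]
    have h5 := Λ.small m hm i h3 h4
    rw [abs_le] at h5
    have h6 : ε * cc P m i = -1 := by
      rcases hε with rfl | rfl <;> omega
    refine ⟨⟨Sum.inl (m + ε • P.root i), (inl_mem Λ _).2 (add_mem hε hm h6)⟩,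
      ⟨Sum.inl m, (inl_mem Λ m).2 hm⟩, ?_⟩
    rw [opE, mono_apply]
    simp only [tt, ct, if_neg h1, if_pos h6, if_true]

end

open Classical in
/-- Existence of integral representations (`IntRep`). -/
theorem exists_intRep [Finite idx] [Module.Finite ℤ M] (P : RootPairing idx ℤ M N) [P.IsReduced]
    (b : P.Base) : ∃ (κ : Type) (_ : Fintype κ) (_ : DecidableEq κ),
      Nonempty (Groth.Agent.RedSub.H507.Input.IntRep P b κ) := by
  obtain ⟨Λ, hΛ⟩ := exists_smallSet P
  have e1 : (1 : ℤ) = 1 ∨ (1 : ℤ) = -1 := Or.inl rfl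
  have e2 : (-1 : ℤ) = 1 ∨ (-1 : ℤ) = -1 := Or.inr rfl
  refine ⟨idxSet Λ b, inferInstance, inferInstance, ⟨{
    wt := fun k => wt' (k : M ⊕ b.support)
    E := dvE b Λ 1
    F := dvE b Λ (-1)
    E_pow := fun i n => dvE_pow e1 i n
    F_pow := fun i n => dvE_pow e2 i n
    E_nil := fun i => ⟨3, opE_cube e1 i⟩
    F_nil := fun i => ⟨3, opE_cube e2 i⟩
    E_wt := fun i k l h => by
      rw [opE_wt i k l h, one_smul]
    F_wt := fun i k l h => by
      rw [opE_wt i k l h, neg_smul, one_smul, sub_eq_add_neg]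
    EF_same := fun i => opE_lie_same i
    EF_ne := fun i j hij => opE_lie_ne hij
    E_one := fun i => by
      obtain ⟨k, l, h⟩ := exists_one hΛ e1 i
      exact ⟨k, l, Or.inl h⟩
    span_wt := wt_closure hΛ }⟩⟩

open Classical in
/-- Existence of Chevalley matrices (`ChevMat`). -/
theorem nonempty_chevMat [Finite idx] [Module.Finite ℤ M] (P : RootPairing idx ℤ M (Module.Dual ℤ M))
    [P.IsReduced] (b : P.Base) : Nonempty (Groth.Agent.RedSub.H630.ChevDefs.ChevMat P b) := by
  obtain ⟨Λ, hΛ⟩ := exists_smallSet P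
  have e1 : (1 : ℤ) = 1 ∨ (1 : ℤ) = -1 := Or.inl rfl
  have e2 : (-1 : ℤ) = 1 ∨ (-1 : ℤ) = -1 := Or.inr rfl
  refine ⟨{
    J := idxSet Λ b
    wt := fun k => wt' (k : M ⊕ b.support)
    e := opE b Λ 1
    f := opE b Λ (-1)
    e_wt := fun i k l h => by
      beta_reduce
      rw [opE_wt i k l h, one_smul]
    f_wt := fun i k l h => by
      beta_reduce
      rw [opE_wt i k l h, neg_smul, one_smul]
    lie_same := fun i => opE_lie_same i
    lie_ne := fun i j hij => opE_lie_ne hij
    e_div := fun i n => ⟨_, dvE_pow e1 i n⟩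
    f_div := fun i n => ⟨_, dvE_pow e2 i n⟩
    e_prim := fun i => by
      obtain ⟨k, l, h⟩ := exists_one hΛ e1 i
      exact ⟨k, l, by rw [h]; exact isUnit_one⟩
    f_prim := fun i => by
      obtain ⟨k, l, h⟩ := exists_one hΛ e2 i
      exact ⟨k, l, by rw [h]; exact isUnit_one⟩
    span_wt := by
      rw [← AddSubgroup.toIntSubmodule_closure, wt_closure hΛ]
      rfl }⟩

end Groth.Agent.Redsub.H631.IntRepEx
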