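import Groth.Agent.RedSub.H630.ChevDefs
import Mathlib.Algebra.MvPolynomial.Eval
import Mathlib.Algebra.Algebra.Rat

/-!
# Products of root matrices: recovering the coordinates, and transfer from `ℚ`-algebras to all rings

`E : idx → ℕ → Matrix J J ℤ` divided powers of matrices of weight `root a`, `phi a` a functional
with `phi a (E a 1) = 1` killing all other weights, `l` a linear form on weights.
-/

set_option autoImplicit false
universe u v

namespace Groth.Agent.Redsub.H631.Transfer

open Groth.Agent.RedSub.H630.ChevDefs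

/-! ### The filtration by a linear form -/

section Fil

variable {J M : Type} [AddCommGroup M] {B : Type u} [CommRing B]

/-- matrices which raise the `l`-degree by at least `k` -/
def Fil (wt : J → M) (l : M →+ ℤ) (B : Type u) [CommRing B] (k : ℤ) : Submodule B (Matrix J J B) where
  carrier := {X | ∀ i j, X i j ≠ 0 → l (wt j) + k ≤ l (wt i)}
  add_mem' := by
    intro X Y hX hY i j h
    rw [Matrix.add_apply] at h
    by_cases h1 : X i j = 0
    · rw [h1, zero_add] at h
      exact hY i j h
    · exact hX i j h1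
  zero_mem' := by
    intro i j h
    exact absurd rfl h
  smul_mem' := by
    intro c X hX i j h
    apply hX
    intro h1
    apply h
    rw [Matrix.smul_apply, h1, smul_zero]

variable {wt : J → M} {l : M →+ ℤ}

lemma mem_Fil {k : ℤ} {X : Matrix J J B} :
    X ∈ Fil wt l B k ↔ ∀ i j, X i j ≠ 0 → l (wt j) + k ≤ l (wt i) := Iff.rfl

lemma Fil_anti {k m : ℤ} (h : k ≤ m) : Fil wt l B m ≤ Fil wt l B k := fun X hX i j hij => by
  have := hX i j hij
  omega

lemma isWt_mem_Fil {m : M} {X : Matrix J J B} (h : IsWt wt m X) : X ∈ Fil wt l B (l m) := by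
  intro i j hij
  rw [h i j hij, map_add]

variable [Fintype J]

lemma mul_mem_Fil {k m : ℤ} {X Y : Matrix J J B} (hX : X ∈ Fil wt l B k) (hY : Y ∈ Fil wt l B m) :
    X * Y ∈ Fil wt l B (k + m) := by
  intro i j hij
  rw [Matrix.mul_apply] at hij
  obtain ⟨p, -, hp⟩ := Finset.exists_ne_zero_of_sum_ne_zero hij
  have h1 := hX i p (left_ne_zero_of_mul hp)
  have h2 := hY p j (right_ne_zero_of_mul hp)
  omega

variable [DecidableEq J]

omit [Fintype J] in
lemma one_mem_Fil : (1 : Matrix J J B) ∈ Fil wt l B 0 := by
  intro i j hij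
  rw [Matrix.one_apply] at hij
  split_ifs at hij with h
  · rw [h, add_zero]
  · exact absurd rfl hij

/-- `x * y ≡ y` modulo `Fil (k + 1)` for `x ∈ 1 + Fil 1`, `y ∈ Fil k`. -/
lemma mul_sub_mem {k : ℤ} {X Y : Matrix J J B} (hX : X - 1 ∈ Fil wt l B 1) (hY : Y ∈ Fil wt l B k) :
    X * Y - Y ∈ Fil wt l B (k + 1) := by
  have h := mul_mem_Fil hX hY
  rw [sub_mul, one_mul] at h
  rwa [add_comm] at h

lemma mul_sub_mem' {k : ℤ} {X Y : Matrix J J B} (hX : X - 1 ∈ Fil wt l B 1)
    (hY : Y ∈ Fil wt l B k) : Y * X - Y ∈ Fil wt l B (k + 1) := by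
  have h := mul_mem_Fil hY hX
  rwa [mul_sub, mul_one] at h

end Fil

/-! ### Base change of functionals -/

section Phi

variable {J : Type} [Fintype J] [DecidableEq J]

/-- Base change of a functional on integral matrices. -/
noncomputable def phiB (phi : Matrix J J ℤ →ₗ[ℤ] ℤ) (B : Type u) [CommRing B] :
    Matrix J J B →ₗ[B] B where
  toFun X := ∑ i, ∑ j, X i j * ((phi (Matrix.single i j 1) : ℤ) : B)
  map_add' X Y := by
    simp only [Matrix.add_apply, add_mul, Finset.sum_add_distrib]
  map_smul' c X := by
    simp only [Matrix.smul_apply, smul_eq_mul, mul_assoc, Finset.mul_sum, RingHom.id_apply]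

variable (phi : Matrix J J ℤ →ₗ[ℤ] ℤ) {B : Type u} [CommRing B] {C : Type v} [CommRing C]

lemma phiB_apply (X : Matrix J J B) :
    phiB phi B X = ∑ i, ∑ j, X i j * ((phi (Matrix.single i j 1) : ℤ) : B) := rfl

lemma phi_eq (X : Matrix J J ℤ) : phi X = ∑ i, ∑ j, X i j * phi (Matrix.single i j 1) := by
  conv_lhs => rw [Matrix.matrix_eq_sum_single X]
  rw [map_sum]
  refine Finset.sum_congr rfl fun i _ => ?_
  rw [map_sum]
  refine Finset.sum_congr rfl fun j _ => ?_
  have : Matrix.single i j (X i j) = X i j • Matrix.single i j (1 : ℤ) := by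
    rw [Matrix.smul_single, smul_eq_mul, mul_one]
  rw [this, map_smul, smul_eq_mul]

lemma phiB_map (X : Matrix J J B) (f : B →+* C) :
    phiB phi C (X.map f) = f (phiB phi B X) := by
  simp only [phiB_apply, Matrix.map_apply, map_sum, map_mul, map_intCast]

lemma phiB_intCast (X : Matrix J J ℤ) :
    phiB phi B (X.map (Int.cast : ℤ → B)) = ((phi X : ℤ) : B) := by
  rw [phi_eq phi X]
  simp only [phiB_apply, Matrix.map_apply, Int.cast_sum, Int.cast_mul]

variable {M : Type} [AddCommGroup M] {wt : J → M}

lemma phiB_eq_zero {m : M} (h : ∀ m', m' ≠ m → ∀ X, IsWt wt m' X → phi X = 0)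
    {X : Matrix J J B} (hX : ∀ i j, wt i = wt j + m → X i j = 0) : phiB phi B X = 0 := by
  rw [phiB_apply]
  refine Finset.sum_eq_zero fun i _ => Finset.sum_eq_zero fun j _ => ?_
  by_cases h1 : wt i = wt j + m
  · rw [hX i j h1, zero_mul]
  · rw [h (wt i - wt j) (fun h2 => h1 (by rw [← h2]; abel)), Int.cast_zero, mul_zero]
    intro i' j' h3
    rw [Matrix.single_apply] at h3
    split_ifs at h3 with h4
    · rw [← h4.1, ← h4.2]
      abel
    · exact absurd rfl h3

lemma phiB_eq_zero_of_Fil {m : M} (h : ∀ m', m' ≠ m → ∀ X, IsWt wt m' X → phi X = 0)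
    {l : M →+ ℤ} {k : ℤ} (hk : l m < k) {X : Matrix J J B} (hX : X ∈ Fil wt l B k) :
    phiB phi B X = 0 := by
  refine phiB_eq_zero phi h fun i j hij => ?_
  by_contra h1
  have h2 := hX i j h1
  rw [hij, map_add] at h2
  omega

end Phi

/-! ### Root matrices -/

/-- Root matrices with functionals. -/
structure RootMat {idx M J : Type} [AddCommGroup M] [Fintype J] [DecidableEq J] (root : idx → M)
    (wt : J → M) (N : ℕ) (E : idx → ℕ → Matrix J J ℤ)
    (phi : idx → Matrix J J ℤ →ₗ[ℤ] ℤ) : Prop where
  inj : Function.Injective root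
  E_zero : ∀ a, E a 0 = 1
  E_wt : ∀ a n, IsWt wt (n • root a) (E a n)
  phi_E : ∀ a, phi a (E a 1) = 1
  phi_wt : ∀ a m, m ≠ root a → ∀ X, IsWt wt m X → phi a X = 0
  two_le : 2 ≤ N

section Prod

variable {idx M J : Type} [AddCommGroup M] [Fintype J] [DecidableEq J] {root : idx → M}
  {wt : J → M} {N : ℕ} {E : idx → ℕ → Matrix J J ℤ} {phi : idx → Matrix J J ℤ →ₗ[ℤ] ℤ}

/-- The product of root matrices along a list. -/
noncomputable def gp (E : idx → ℕ → Matrix J J ℤ) (N : ℕ) {B : Type u} [CommRing B] (L : List idx)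
    (x : idx → B) : Matrix J J B :=
  (L.map fun a => uMat (E a) N (x a)).prod

lemma gp_nil {B : Type u} [CommRing B] (x : idx → B) : gp E N [] x = 1 := rfl

lemma gp_cons {B : Type u} [CommRing B] (a : idx) (L : List idx) (x : idx → B) :
    gp E N (a :: L) x = uMat (E a) N (x a) * gp E N L x := by
  simp [gp]

lemma gp_append {B : Type u} [CommRing B] (L L' : List idx) (x : idx → B) :
    gp E N (L ++ L') x = gp E N L x * gp E N L' x := by
  simp [gp]

lemma gp_congr {B : Type u} [CommRing B] {L : List idx} {x y : idx → B} (h : ∀ a ∈ L, x a = y a) :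
    gp E N L x = gp E N L y := by
  unfold gp
  congr 1
  apply List.map_congr_left
  intro a ha
  rw [h a ha]

lemma uMat_map {B : Type u} [CommRing B] {C : Type v} [CommRing C] (f : B →+* C) (a : idx) (x : B) :
    (uMat (E a) N x).map f = uMat (E a) N (f x) := by
  ext i j
  simp only [uMat, Matrix.map_apply, Matrix.sum_apply, Matrix.smul_apply, smul_eq_mul, map_sum,
    map_mul, map_pow, map_intCast]

lemma gp_map {B : Type u} [CommRing B] {C : Type v} [CommRing C] (f : B →+* C) (L : List idx)
    (x : idx → B) : (gp E N L x).map f = gp E N L (fun a => f (x a)) := by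
  induction L with
  | nil =>
    rw [gp_nil, gp_nil]
    ext i j
    simp [Matrix.one_apply, apply_ite f]
  | cons a L ih => rw [gp_cons, gp_cons, Matrix.map_mul, ih, uMat_map]

variable (H : RootMat root wt N E phi) {B : Type u} [CommRing B] {l : M →+ ℤ}
include H

lemma isWt_map_E (a : idx) (n : ℕ) : IsWt wt (n • root a) ((E a n).map (Int.cast : ℤ → B)) := by
  intro i j h
  apply H.E_wt a n
  intro h1
  apply h
  rw [Matrix.map_apply, h1, Int.cast_zero]

lemma uMat_split (a : idx) (x : B) : uMat (E a) N x =
    1 + x • (E a 1).map (Int.cast : ℤ → B) +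
      ∑ n ∈ Finset.Ico 2 N, x ^ n • (E a n).map (Int.cast : ℤ → B) := by
  rw [uMat, Finset.range_eq_Ico, ← Finset.sum_Ico_consecutive _ (Nat.zero_le 2) H.two_le]
  congr 1
  rw [← Finset.range_eq_Ico, Finset.sum_range_succ, Finset.sum_range_one, pow_zero, one_smul,
    pow_one, H.E_zero]
  congr 1
  ext i j
  simp [Matrix.one_apply, apply_ite (Int.cast : ℤ → B)]

lemma uMat_zero (a : idx) : uMat (E a) N (0 : B) = 1 := by
  rw [uMat_split H, zero_smul, add_zero, Finset.sum_eq_zero, add_zero]
  intro n hn
  rw [zero_pow (by have := (Finset.mem_Ico.1 hn).1; omega), zero_smul]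

/-- `u_a(x) - u_a(y) ≡ (x - y) E_a` modulo `Fil (l a + 1)`. -/
lemma uMat_sub_uMat (a : idx) (ha : 0 < l (root a)) (x y : B) :
    uMat (E a) N x - uMat (E a) N y - (x - y) • (E a 1).map (Int.cast : ℤ → B) ∈
      Fil wt l B (l (root a) + 1) := by
  rw [uMat_split H, uMat_split H]
  have h1 : ∀ z : B, ∑ n ∈ Finset.Ico 2 N, z ^ n • (E a n).map (Int.cast : ℤ → B) ∈
      Fil wt l B (l (root a) + 1) := by
    intro z
    refine Submodule.sum_mem _ fun n hn => Submodule.smul_mem _ _ ?_
    have h2 := isWt_mem_Fil (l := l) (isWt_map_E H (B := B) a n)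
    rw [map_nsmul, nsmul_eq_mul] at h2
    refine Fil_anti ?_ h2
    have h3 : (2 : ℤ) ≤ n := by exact_mod_cast (Finset.mem_Ico.1 hn).1
    nlinarith
  have h2 := Submodule.sub_mem _ (h1 x) (h1 y)
  convert h2 using 1
  rw [sub_smul]
  abel

lemma uMat_sub_one (a : idx) (ha : 0 < l (root a)) (x : B) :
    uMat (E a) N x - 1 ∈ Fil wt l B 1 := by
  have h1 := uMat_sub_uMat H a ha x 0
  rw [uMat_zero H, sub_zero] at h1
  have h2 : x • (E a 1).map (Int.cast : ℤ → B) ∈ Fil wt l B 1 := by
    have h0 := isWt_mem_Fil (l := l) (isWt_map_E H (B := B) a 1)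
    rw [one_smul] at h0
    exact Submodule.smul_mem _ _ (Fil_anti (by omega) h0)
  have h3 := Submodule.add_mem _ (Fil_anti (by omega) h1) h2
  rwa [sub_add_cancel] at h3

lemma gp_sub_one (L : List idx) (hL : ∀ a ∈ L, 0 < l (root a)) (x : idx → B) :
    gp E N L x - 1 ∈ Fil wt l B 1 := by
  induction L with
  | nil => rw [gp_nil, sub_self]; exact Submodule.zero_mem _
  | cons a L ih =>
    have h1 := ih fun c hc => hL c (List.mem_cons_of_mem _ hc)
    have h2 := uMat_sub_one H a (hL a List.mem_cons_self) (x a)
    have h3 := mul_sub_mem h2 h1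
    have h4 : gp E N (a :: L) x - 1 = (uMat (E a) N (x a) * (gp E N L x - 1) - (gp E N L x - 1)) +
        (uMat (E a) N (x a) - 1) + (gp E N L x - 1) := by
      rw [gp_cons, mul_sub, mul_one]
      abel
    rw [h4]
    exact Submodule.add_mem _ (Submodule.add_mem _ (Fil_anti (by omega) h3) h2) h1

omit H in
/-- the part of degree `k` of the difference of coordinates -/
noncomputable def linPart (E : idx → ℕ → Matrix J J ℤ) (root : idx → M) (l : M →+ ℤ)
    (k : ℤ) {B : Type u} [CommRing B] (L : List idx) (x : idx → B) : Matrix J J B :=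
  (L.map fun a => if l (root a) = k then x a • (E a 1).map (Int.cast : ℤ → B) else 0).sum

lemma linPart_mem (k : ℤ) (L : List idx) (x : idx → B) : linPart E root l k L x ∈ Fil wt l B k := by
  induction L with
  | nil => exact Submodule.zero_mem _
  | cons a L ih =>
    rw [linPart, List.map_cons, List.sum_cons]
    refine Submodule.add_mem _ ?_ ih
    split_ifs with h
    · have := isWt_mem_Fil (l := l) (isWt_map_E H (B := B) a 1)
      rw [one_smul, h] at this
      exact Submodule.smul_mem _ _ this
    · exact Submodule.zero_mem _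

/-- If `x` and `y` agree in degrees `< k`, then `∏ u(x) - ∏ u(y)` is `∑ (x_a - y_a) E_a` over the
roots of degree `k` modulo `Fil (k + 1)`. -/
lemma gp_sub_gp (k : ℤ) (L : List idx) (hL : ∀ a ∈ L, 0 < l (root a)) (x y : idx → B)
    (hxy : ∀ a ∈ L, l (root a) < k → x a = y a) :
    gp E N L x - gp E N L y - linPart E root l k L (fun a => x a - y a) ∈ Fil wt l B (k + 1) := by
  induction L with
  | nil =>
    rw [gp_nil, gp_nil, sub_self, zero_sub]
    exact Submodule.neg_mem _ (Submodule.zero_mem _)
  | cons a L ih =>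
    have h1 := ih (fun c hc => hL c (List.mem_cons_of_mem _ hc))
      (fun c hc => hxy c (List.mem_cons_of_mem _ hc))
    have ha := hL a List.mem_cons_self
    have h2 := uMat_sub_one H a ha (y a)
    have h3 := gp_sub_one H L (fun c hc => hL c (List.mem_cons_of_mem _ hc)) x
    set S' := linPart E root l k L (fun a => x a - y a) with hS'
    have hS'm : S' ∈ Fil wt l B k := linPart_mem H k L _
    -- `u(y) * (g x - g y) ≡ S'`
    have h4 : uMat (E a) N (y a) * (gp E N L x - gp E N L y) - S' ∈ Fil wt l B (k + 1) := by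
      have e1 : gp E N L x - gp E N L y ∈ Fil wt l B k := by
        have := Submodule.add_mem _ (Fil_anti (by omega) h1) hS'm
        rwa [sub_add_cancel] at this
      have e2 := mul_sub_mem h2 e1
      have e3 := Submodule.add_mem _ e2 h1
      convert e3 using 1
      abel
    -- the first factor
    have h5 : (uMat (E a) N (x a) - uMat (E a) N (y a)) * gp E N L x -
        (if l (root a) = k then (x a - y a) • (E a 1).map (Int.cast : ℤ → B) else 0) ∈
        Fil wt l B (k + 1) := by
      by_cases hlt : l (root a) < k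
      · rw [hxy a List.mem_cons_self hlt, sub_self, zero_mul, zero_sub, if_neg (by omega), neg_zero]
        exact Submodule.zero_mem _
      · have e1 := uMat_sub_uMat H a ha (x a) (y a)
        have e2 : (x a - y a) • (E a 1).map (Int.cast : ℤ → B) ∈ Fil wt l B (l (root a)) := by
          have := isWt_mem_Fil (l := l) (isWt_map_E H (B := B) a 1)
          rw [one_smul] at this
          exact Submodule.smul_mem _ _ this
        have e3 : uMat (E a) N (x a) - uMat (E a) N (y a) ∈ Fil wt l B (l (root a)) := by
          have := Submodule.add_mem _ (Fil_anti (by omega) e1) e2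
          rwa [sub_add_cancel] at this
        have e4 := mul_sub_mem' h3 e3
        by_cases heq : l (root a) = k
        · rw [if_pos heq]
          rw [heq] at e4 e1
          have e5 := Submodule.add_mem _ e4 e1
          convert e5 using 1
          abel
        · rw [if_neg heq, sub_zero]
          have e5 := Submodule.add_mem _ (Fil_anti (m := l (root a) + 1) (k := k + 1) (by omega) e4)
            (Fil_anti (k := k + 1) (by omega) e3)
          rwa [sub_add_cancel] at e5
    have h6 := Submodule.add_mem _ h5 h4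
    convert h6 using 1
    rw [gp_cons, gp_cons, linPart, List.map_cons, List.sum_cons, ← linPart, ← hS']
    simp only [sub_mul, mul_sub]
    abel

lemma phiB_linPart (k : ℤ) (L : List idx) (hL : L.Nodup) (x : idx → B) (a : idx) (ha : a ∈ L)
    (hk : l (root a) = k) : phiB (phi a) B (linPart E root l k L x) = x a := by
  have h0 : ∀ c, c ≠ a → phiB (phi a) B ((E c 1).map (Int.cast : ℤ → B)) = 0 := by
    intro c hc
    rw [phiB_intCast, H.phi_wt a (1 • root c) _ _ (H.E_wt c 1), Int.cast_zero]
    rw [one_smul]
    exact fun h => hc (H.inj h)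
  have h1 : phiB (phi a) B ((E a 1).map (Int.cast : ℤ → B)) = 1 := by
    rw [phiB_intCast, H.phi_E, Int.cast_one]
  have h2 : ∀ L : List idx, a ∉ L → phiB (phi a) B (linPart E root l k L x) = 0 := by
    intro L
    induction L with
    | nil => intro _; exact map_zero _
    | cons c L ih =>
      intro h
      rw [linPart, List.map_cons, List.sum_cons, map_add, ← linPart,
        ih (fun h' => h (List.mem_cons_of_mem _ h')), add_zero]
      split_ifs
      · rw [map_smul, h0 c (fun h' => h (by rw [h']; exact List.mem_cons_self)), smul_zero]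
      · exact map_zero _
  induction L with
  | nil => exact absurd ha List.not_mem_nil
  | cons c L ih =>
    rw [linPart, List.map_cons, List.sum_cons, map_add, ← linPart]
    rw [List.nodup_cons] at hL
    rcases List.mem_cons.1 ha with rfl | h
    · rw [if_pos hk, map_smul, h1, h2 L hL.1, smul_eq_mul, mul_one, add_zero]
    · have hca : c ≠ a := fun h' => hL.1 (by rw [h']; exact h)
      rw [ih hL.2 h]
      split_ifs
      · rw [map_smul, h0 c hca, smul_zero, zero_add]
      · rw [map_zero, zero_add]

/-- **Key comparison**: the functional `phi a` computes the difference of the `a`-coordinates when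
all coordinates of smaller degree agree. -/
theorem phiB_gp_sub (L : List idx) (hnd : L.Nodup) (hL : ∀ a ∈ L, 0 < l (root a)) (x y : idx → B)
    (a : idx) (ha : a ∈ L) (hxy : ∀ c ∈ L, l (root c) < l (root a) → x c = y c) :
    phiB (phi a) B (gp E N L x) - phiB (phi a) B (gp E N L y) = x a - y a := by
  have h1 := gp_sub_gp H (l (root a)) L hL x y hxy
  have h2 := phiB_eq_zero_of_Fil (phi a) (H.phi_wt a) (l := l) (k := l (root a) + 1) (by omega) h1
  rw [map_sub, map_sub, phiB_linPart H _ L hnd _ a ha rfl, sub_eq_zero] at h2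
  exact h2

/-- The coordinates of a product of root matrices are unique. -/
theorem gp_inj (L : List idx) (hnd : L.Nodup) (hL : ∀ a ∈ L, 0 < l (root a)) {x y : idx → B}
    (h : gp E N L x = gp E N L y) : ∀ a ∈ L, x a = y a := by
  have key : ∀ n : ℕ, ∀ a ∈ L, l (root a) ≤ n → x a = y a := by
    intro n
    induction n with
    | zero => intro a ha hn; have := hL a ha; omega
    | succ n ih =>
      intro a ha hn
      have h1 := phiB_gp_sub H L hnd hL x y a ha fun c hc hlt => ih c hc (by omega)
      rw [h, sub_self] at h1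
      exact (sub_eq_zero.1 h1.symm)
  intro a ha
  exact key (l (root a)).toNat a ha (by omega)

/-- The coordinates of a product of root matrices lie in the subring generated by the entries. -/
theorem exists_lift (L : List idx) (hnd : L.Nodup) (hL : ∀ a ∈ L, 0 < l (root a))
    {C : Type v} [CommRing C] (f : B →+* C) (hf : Function.Injective f) (g : Matrix J J B)
    (c : idx → C) (hg : g.map f = gp E N L c) :
    ∃ z : idx → B, (∀ a ∈ L, f (z a) = c a) ∧ g = gp E N L z := by
  classical
  have key : ∀ n : ℕ, ∀ a ∈ L, l (root a) ≤ n → ∃ z : B, f z = c a := by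
    intro n
    induction n with
    | zero => intro a ha hn; have := hL a ha; omega
    | succ n ih =>
      intro a ha hn
      by_cases hn' : l (root a) ≤ n
      · exact ih a ha hn'
      choose! z hz using ih
      let y : idx → B := fun c => if c ∈ L ∧ l (root c) ≤ n then z c else 0
      have hy : ∀ d ∈ L, l (root d) < l (root a) → c d = f (y d) := by
        intro d hd hlt
        have h1 : l (root d) ≤ n := by omega
        simp only [y, if_pos (And.intro hd h1)]
        exact (hz d hd h1).symm
      have h1 := phiB_gp_sub H L hnd hL c (fun d => f (y d)) a ha hy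
      have h2 : f (y a) = 0 := by
        simp only [y, if_neg (fun h : a ∈ L ∧ l (root a) ≤ n => hn' h.2), map_zero]
      rw [h2, sub_zero, ← hg, ← gp_map, phiB_map, phiB_map, ← map_sub] at h1
      exact ⟨_, h1⟩
  have key' : ∀ a ∈ L, ∃ z : B, f z = c a := fun a ha =>
    key (l (root a)).toNat a ha (by omega)
  choose! z hz using key'
  refine ⟨z, hz, ?_⟩
  have h1 : g.map f = (gp E N L z).map f := by
    rw [hg, gp_map]
    exact gp_congr fun a ha => (hz a ha).symm
  ext i j
  exact hf (congrFun (congrFun h1 i) j)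

end Prod

end Groth.Agent.Redsub.H631.Transfer
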