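import Groth.Prelude.Def_RedSub
import Groth.Agent.S3005
import Groth.Agent.Sga3B.SplitBc264b
import Groth.Agent.Sga3B.SplitReduced415

/-!
# Split reductive groups over a field come from `ℤ`: reduction to the existence theorem
-/

set_option autoImplicit false
open CategoryTheory MonoidalCategory CartesianMonoidalCategory MonObj GrpObj AlgebraicGeometry
universe u

namespace Groth.Agent.Redsub.H631.Red3949

/-- The existence theorem over the integers. -/
def ExistZ : Prop :=
  ∀ {idx M N : Type} [Finite idx] [AddCommGroup M] [AddCommGroup N]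
    [Module.Finite ℤ M] [Module.Free ℤ M] (R : RootPairing idx ℤ M N) [R.IsReduced],
    ∃ (G : Over (Spec (CommRingCat.of (ULift.{u} ℤ)))) (_ : GrpObj G),
      Red.IsReductive G ∧ Red.IsSplitOfType R G

/-- S3949 from the existence theorem. -/
theorem main (hE : ExistZ.{u}) (k : Type u) [Field k] (Gk : Over (Spec (CommRingCat.of k)))
    [GrpObj Gk] (D : Red.SplitRed Gk) :
    ∃ (G : Over (Spec (CommRingCat.of (ULift.{u} ℤ)))) (_ : GrpObj G), Red.IsReductive G ∧
      Nonempty (Grp.mk (Red.bc (Limits.IsTerminal.from specULiftZIsTerminal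
        (Spec (CommRingCat.of k))) G) ≅ Grp.mk Gk) := by
  have hred : D.P.IsReduced := Sga3B.SplitReduced415.isReduced D
  have hfin : Finite D.idx := inferInstance
  obtain ⟨G, hG, h1, h2⟩ := hE D.P
  refine ⟨G, hG, h1, ?_⟩
  exact S3005.result _ D.P _ Gk (Sga3B.SplitBc264.isSplitOfType_bc _ D.P h2) ⟨D, ⟨RootPairing.Equiv.id _⟩⟩

end Groth.Agent.Redsub.H631.Red3949
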