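import Mathlib.LinearAlgebra.RootSystem.Base
import Mathlib.Data.Matrix.Mul
import Mathlib.Data.Matrix.Diagonal
import Mathlib.Data.Nat.Factorial.Basic

/-!
# The small module of a root datum

`P` a root pairing over `ℤ` with a base `b`, `Λ` a finite set of weights, stable under the
reflections and consisting of small elements (`|⟨m, a^∨⟩| ≤ 1` for all roots `a ≠ ± m`).
The free module with basis `v_μ` (`μ ∈ Λ`) and `u_i` (`i` simple, `root i ∈ Λ`) carries operators
`E_i`, `F_i` with `[E_i, F_i] = h_i`, `[E_i, F_j] = 0`, `E_i ^ 2 = 2 E2_i`, `E_i ^ 3 = 0`.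
-/

set_option autoImplicit false

namespace Groth.Agent.Redsub.H631.SmallRep

section Mono

variable {X : Type} [DecidableEq X] (S : Finset X)

/-- The matrix sending the basis vector `l` to `c l` times the basis vector `t l`. -/
def mono (t : X → X) (c : X → ℤ) : Matrix S S ℤ := fun k l => if (k : X) = t l then c l else 0

variable {S}

lemma mono_apply (t : X → X) (c : X → ℤ) (k l : S) :
    mono S t c k l = if (k : X) = t l then c l else 0 := rfl

lemma mono_mul_apply {t t' : X → X} {c c' : X → ℤ} (h : ∀ l ∈ S, c' l ≠ 0 → t' l ∈ S) (k l : S) :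
    (mono S t c * mono S t' c') k l = if (k : X) = t (t' l) then c (t' l) * c' l else 0 := by
  rw [Matrix.mul_apply]
  by_cases h0 : c' l = 0
  · rw [Finset.sum_eq_zero, h0, mul_zero, ite_self]
    intro m _
    rw [mono_apply _ _ m l, h0, ite_self, mul_zero]
  · have hm := h l l.2 h0
    rw [Finset.sum_eq_single ⟨t' l, hm⟩]
    · simp only [mono_apply, if_true, ite_mul, zero_mul]
    · intro m _ hne
      rw [mono_apply _ _ m l, if_neg, mul_zero]
      intro h1
      exact hne (Subtype.ext h1)
    · intro h1
      exact absurd (Finset.mem_univ _) h1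

lemma mono_mul {t t' : X → X} {c c' : X → ℤ} (h : ∀ l ∈ S, c' l ≠ 0 → t' l ∈ S) :
    mono S t c * mono S t' c' = mono S (fun l => t (t' l)) (fun l => c (t' l) * c' l) := by
  ext k l
  rw [mono_mul_apply h, mono_apply]

lemma mono_congr {t t' : X → X} {c c' : X → ℤ}
    (h : ∀ l ∈ S, c l = c' l ∧ (c l ≠ 0 → t l = t' l)) : mono S t c = mono S t' c' := by
  ext k l
  rw [mono_apply, mono_apply]
  obtain ⟨h1, h2⟩ := h l l.2
  by_cases h0 : c l = 0
  · rw [← h1, h0, ite_self, ite_self]
  · rw [h2 h0, h1]

end Mono

variable {idx M N : Type} [AddCommGroup M] [AddCommGroup N]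
variable (P : RootPairing idx ℤ M N) (b : P.Base)

/-- The pairing of a weight with a coroot. -/
def cc (m : M) (i : idx) : ℤ := P.toLinearMap m (P.coroot i)

variable {P}

lemma cc_add (m m' : M) (i : idx) : cc P (m + m') i = cc P m i + cc P m' i := by
  simp [cc]

lemma cc_sub (m m' : M) (i : idx) : cc P (m - m') i = cc P m i - cc P m' i := by
  simp [cc]

lemma cc_neg (m : M) (i : idx) : cc P (-m) i = -cc P m i := by
  simp [cc]

lemma cc_zero (i : idx) : cc P 0 i = 0 := by
  simp [cc]

lemma cc_same (i : idx) : cc P (P.root i) i = 2 := by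
  simp [cc]

lemma cc_root (i j : idx) : cc P (P.root i) j = P.pairing i j := by
  simp [cc]

lemma reflection_eq (i : idx) (m : M) : P.reflection i m = m - cc P m i • P.root i := by
  rw [P.reflection_apply]
  rfl

variable (P) in
/-- `m` is small: `|⟨m, a^∨⟩| ≤ 1` for every root `a ≠ ± m`. -/
def IsSmall (m : M) : Prop := ∀ a : idx, P.root a ≠ m → P.root a ≠ -m → |cc P m a| ≤ 1

variable (P) in
/-- A finite set of small weights stable under reflections. -/
structure SmallSet where
  /-- the set -/
  L : Finset M
  small : ∀ m ∈ L, IsSmall P m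
  stable : ∀ m ∈ L, ∀ a : idx, P.reflection a m ∈ L

section

variable [Finite idx] (b : P.Base) (Λ : SmallSet P)

lemma cc_le {i j : b.support} (h : i ≠ j) : cc P (P.root i) j ≤ 0 := by
  have h1 := b.pairingIn_le_zero_of_ne (i := (i : idx)) (j := (j : idx))
    (fun h' => h (Subtype.ext h')) i.2 j.2
  have h2 : P.pairingIn ℤ i j = P.pairing i j := by
    simpa using (P.algebraMap_pairingIn ℤ i j)
  rw [cc_root, ← h2]
  exact h1

omit [Finite idx] in
lemma isTorsionFree_of (P : RootPairing idx ℤ M N) : Module.IsTorsionFree ℤ M := by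
  have : Module.IsReflexive ℤ M := .of_isPerfPair P.toLinearMap
  infer_instance

omit [Finite idx] in
lemma cc_zero_iff {i j : idx} : cc P (P.root i) j = 0 ↔ cc P (P.root j) i = 0 := by
  have := isTorsionFree_of P
  rw [cc_root, cc_root, P.pairing_eq_zero_iff]

omit [Finite idx] in
lemma root_ne {i j : b.support} (h : i ≠ j) : P.root i ≠ P.root j := fun h' =>
  h (Subtype.ext (P.root.injective h'))

omit [Finite idx] in
lemma root_ne_neg {i j : b.support} (h : i ≠ j) : P.root i ≠ -P.root j :=
  b.root_ne_neg_of_ne i.2 j.2 (fun h' => h (Subtype.ext h'))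

omit [Finite idx] in
lemma root_ne_neg_self (i : idx) : P.root i ≠ -P.root i := by
  intro h
  have h1 := congrArg (fun m => cc P m i) h
  simp only [cc_neg, cc_same] at h1
  omega

end

/-! ### The operators -/

section Ops

open Classical

variable {b : P.Base} (Λ : SmallSet P)

/-- The index set of the basis of the small module. -/
noncomputable def idxSet (b : P.Base) : Finset (M ⊕ b.support) :=
  (Λ.L.map ⟨Sum.inl, Sum.inl_injective⟩) ∪
    ((Finset.univ.filter fun i : b.support => P.root i ∈ Λ.L).map ⟨Sum.inr, Sum.inr_injective⟩)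

@[simp]
lemma inl_mem (m : M) : (Sum.inl m : M ⊕ b.support) ∈ idxSet Λ b ↔ m ∈ Λ.L := by
  simp [idxSet]

@[simp]
lemma inr_mem (i : b.support) : (Sum.inr i : M ⊕ b.support) ∈ idxSet Λ b ↔ P.root i ∈ Λ.L := by
  simp [idxSet]

/-- target of the raising operator for the sign `ε` -/
noncomputable def tt (ε : ℤ) (i : b.support) : M ⊕ b.support → M ⊕ b.support
  | .inl m => if m = -(ε • P.root i) then .inr i else .inl (m + ε • P.root i)
  | .inr _ => .inl (ε • P.root i)

/-- coefficient of the raising operator for the sign `ε` -/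
noncomputable def ct (ε : ℤ) (i : b.support) : M ⊕ b.support → ℤ
  | .inl m => if m = -(ε • P.root i) then 1 else if ε * cc P m i = -1 then 1 else 0
  | .inr j => if P.root i ∈ Λ.L then |cc P (P.root j) i| else 0

variable (b) in
/-- The operators `E` (`ε = 1`) and `F` (`ε = -1`). -/
noncomputable def opE (ε : ℤ) (i : b.support) : Matrix (idxSet Λ b) (idxSet Λ b) ℤ :=
  mono (idxSet Λ b) (tt ε i) (ct Λ ε i)

/-- coefficient of the divided square -/
noncomputable def ct2 (ε : ℤ) (i : b.support) : M ⊕ b.support → ℤ
  | .inl m => if m = -(ε • P.root i) then 1 else 0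
  | .inr _ => 0

variable (b) in
/-- The divided squares of the operators `E` (`ε = 1`) and `F` (`ε = -1`). -/
noncomputable def opE2 (ε : ℤ) (i : b.support) : Matrix (idxSet Λ b) (idxSet Λ b) ℤ :=
  mono (idxSet Λ b) (fun _ => .inl (ε • P.root i)) (ct2 ε i)

variable {Λ}

lemma neg_mem {a : idx} (h : P.root a ∈ Λ.L) : -P.root a ∈ Λ.L := by
  have h1 := Λ.stable _ h a
  rwa [P.reflection_apply_self] at h1

lemma root_mem_of_neg {a : idx} (h : -P.root a ∈ Λ.L) : P.root a ∈ Λ.L := by
  have h1 := Λ.stable _ h a
  rwa [map_neg, P.reflection_apply_self, neg_neg] at h1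

lemma eps_mem {ε : ℤ} (hε : ε = 1 ∨ ε = -1) {a : idx} : ε • P.root a ∈ Λ.L ↔ P.root a ∈ Λ.L := by
  rcases hε with rfl | rfl
  · rw [one_smul]
  · rw [neg_smul, one_smul]
    exact ⟨root_mem_of_neg, neg_mem⟩

lemma neg_eps_mem {ε : ℤ} (hε : ε = 1 ∨ ε = -1) {a : idx} :
    -(ε • P.root a) ∈ Λ.L ↔ P.root a ∈ Λ.L := by
  rw [← neg_smul]
  exact eps_mem (by omega)

lemma add_mem {ε : ℤ} (hε : ε = 1 ∨ ε = -1) {a : idx} {m : M} (hm : m ∈ Λ.L)
    (h : ε * cc P m a = -1) : m + ε • P.root a ∈ Λ.L := by
  have h1 := Λ.stable _ hm a
  rw [reflection_eq] at h1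
  have h2 : m + ε • P.root a = m - cc P m a • P.root a := by
    have h3 : cc P m a = -ε := by
      rcases hε with rfl | rfl <;> omega
    rw [h3, neg_smul, sub_neg_eq_add]
  rwa [h2]

lemma tt_mem {ε : ℤ} (hε : ε = 1 ∨ ε = -1) (i : b.support) (l : M ⊕ b.support)
    (hl : l ∈ idxSet Λ b) (h : ct Λ ε i l ≠ 0) : tt ε i l ∈ idxSet Λ b := by
  rcases l with m | j
  · rw [inl_mem] at hl
    simp only [ct] at h
    simp only [tt]
    split_ifs at h ⊢ with h1 h2
    · rw [inr_mem, ← neg_eps_mem hε, ← h1]
      exact hl
    · rw [inl_mem]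
      exact add_mem hε hl h2
    · exact absurd rfl h
  · simp only [ct] at h
    split_ifs at h with h1
    · simp only [tt, inl_mem]
      exact (eps_mem hε).2 h1
    · exact absurd rfl h

lemma ct2_mem {ε : ℤ} (hε : ε = 1 ∨ ε = -1) (i : b.support) (l : M ⊕ b.support)
    (hl : l ∈ idxSet Λ b) (h : ct2 ε i l ≠ 0) :
    (Sum.inl (ε • P.root i) : M ⊕ b.support) ∈ idxSet Λ b := by
  rcases l with m | j
  · simp only [ct2] at h
    split_ifs at h with h1
    · rw [inl_mem] at hl
      rw [inl_mem, eps_mem hε, ← neg_eps_mem hε, ← h1]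
      exact hl
    · exact absurd rfl h
  · exact absurd rfl h

lemma eps_root_ne (ε : ℤ) (hε : ε = 1 ∨ ε = -1) (a : idx) : ε • P.root a ≠ -(ε • P.root a) := by
  intro h
  have h1 := congrArg (fun m => cc P m a) h
  rcases hε with rfl | rfl
  · simp only [cc_neg, cc_same, one_smul] at h1
    omega
  · simp only [cc_neg, cc_same, one_smul, neg_smul] at h1
    omega

lemma cc_eps (ε : ℤ) (m : M) (i : idx) : cc P (ε • m) i = ε * cc P m i := by
  simp [cc]

/-- `E ^ 2 = 2 E2`. -/
theorem opE_mul_self {ε : ℤ} (hε : ε = 1 ∨ ε = -1) (i : b.support) :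
    opE b Λ ε i * opE b Λ ε i = (2 : ℤ) • opE2 b Λ ε i := by
  have hs : ε * ε = 1 := by rcases hε with rfl | rfl <;> rfl
  rw [opE, mono_mul (fun l hl h => tt_mem hε i l hl h)]
  have h2 : (2 : ℤ) • opE2 b Λ ε i =
      mono (idxSet Λ b) (fun _ => .inl (ε • P.root i)) (fun l => 2 * ct2 ε i l) := by
    ext k l
    rw [Matrix.smul_apply, opE2, mono_apply, mono_apply, smul_eq_mul]
    split_ifs <;> simp
  rw [h2]
  apply mono_congr
  rintro (m | j) hl
  · rw [inl_mem] at hl
    by_cases h1 : m = -(ε • P.root i)
    · have h3 : P.root i ∈ Λ.L := by rw [← neg_eps_mem hε, ← h1]; exact hl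
      refine ⟨?_, ?_⟩
      · simp [ct, tt, ct2, h1, h3, cc_same]
      · intro _
        simp [tt, h1]
    · by_cases h4 : ε * cc P m i = -1
      · have h5 : m + ε • P.root i ≠ -(ε • P.root i) := by
          intro h
          have h6 := congrArg (fun m => cc P m i) h
          simp only [cc_neg, cc_same, cc_add, cc_eps] at h6
          rcases hε with rfl | rfl <;> omega
        have h6 : ¬ (ε * cc P (m + ε • P.root i) i = -1) := by
          rw [cc_add, cc_eps, cc_same]
          rcases hε with rfl | rfl <;> omega
        refine ⟨?_, ?_⟩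
        · simp [ct, tt, ct2, h1, h5, h6]
        · intro h
          simp [ct, tt, h1, h5, h6] at h
      · refine ⟨?_, ?_⟩
        · simp [ct, tt, ct2, h1, h4]
        · intro h
          simp [ct, tt, h1, h4] at h
  · have h5 := eps_root_ne (P := P) ε hε i
    have h6 : ¬ (ε * cc P (ε • P.root i) i = -1) := by
      rw [cc_eps, cc_same]
      rcases hε with rfl | rfl <;> omega
    refine ⟨?_, ?_⟩
    · simp [ct, tt, ct2, h5, h6]
    · intro h
      simp [ct, tt, h5, h6] at h

/-- `E * E2 = 0`. -/
theorem opE_mul_opE2 {ε : ℤ} (hε : ε = 1 ∨ ε = -1) (i : b.support) :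
    opE b Λ ε i * opE2 b Λ ε i = 0 := by
  rw [opE, opE2, mono_mul (fun l hl h => ct2_mem hε i l hl h)]
  have h5 := eps_root_ne (P := P) ε hε i
  have h6 : ¬ (ε * cc P (ε • P.root i) i = -1) := by
    rw [cc_eps, cc_same]
    rcases hε with rfl | rfl <;> omega
  ext k l
  rw [mono_apply, Matrix.zero_apply]
  simp [ct, h5, h6]

/-- The weight of a basis vector. -/
def wt' : M ⊕ b.support → M := Sum.elim id (fun _ => 0)

theorem opE_wt {ε : ℤ} (i : b.support) (k l : idxSet Λ b)
    (h : opE b Λ ε i k l ≠ 0) : wt' (k : M ⊕ b.support) = wt' (l : M ⊕ b.support) + ε • P.root i := by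
  rw [opE, mono_apply] at h
  split_ifs at h with h1
  · rw [h1]
    obtain ⟨l, hl⟩ := l
    rcases l with m | j
    · simp only [tt]
      split_ifs with h2
      · simp [wt', h2]
      · simp [wt']
    · simp [tt, wt']
  · exact absurd rfl h

/-- `[E, F] = h`. -/
theorem opE_lie_same (i : b.support) :
    opE b Λ 1 i * opE b Λ (-1) i - opE b Λ (-1) i * opE b Λ 1 i =
      Matrix.diagonal fun l : idxSet Λ b => cc P (wt' (l : M ⊕ b.support)) i := by
  have e1 : (1 : ℤ) = 1 ∨ (1 : ℤ) = -1 := Or.inl rfl
  have e2 : (-1 : ℤ) = 1 ∨ (-1 : ℤ) = -1 := Or.inr rfl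
  have hne := root_ne_neg_self (P := P) (i : idx)
  have hne' : -P.root i ≠ P.root i := fun h => hne h.symm
  have h2 := cc_same (P := P) (i : idx)
  rw [opE, opE]
  ext k l
  rw [Matrix.sub_apply, mono_mul_apply (fun l hl h => tt_mem e2 i l hl h),
    mono_mul_apply (fun l hl h => tt_mem e1 i l hl h), Matrix.diagonal_apply]
  obtain ⟨l, hl⟩ := l
  obtain ⟨k, hk⟩ := k
  have hkl : (if (⟨k, hk⟩ : idxSet Λ b) = ⟨l, hl⟩ then cc P (wt' k) i else 0) =
      if k = l then cc P (wt' l) i else 0 := by
    by_cases h : k = l
    · subst h; simp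
    · rw [if_neg h, if_neg (by simpa using h)]
  refine Eq.trans ?_ hkl.symm
  change (if k = tt 1 i (tt (-1) i l) then ct Λ 1 i (tt (-1) i l) * ct Λ (-1) i l else 0) -
    (if k = tt (-1) i (tt 1 i l) then ct Λ (-1) i (tt 1 i l) * ct Λ 1 i l else 0) = _
  rcases l with m | j
  · rw [inl_mem] at hl
    by_cases h1 : m = P.root i
    · subst h1
      simp [tt, ct, h2, hne, hl, wt']
    · by_cases h3 : m = -P.root i
      · have h4 : P.root i ∈ Λ.L := root_mem_of_neg (by rw [← h3]; exact hl)
        subst h3
        simp [tt, ct, h2, hne', h4, wt', cc_neg]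
        split_ifs <;> rfl
      · have hs := Λ.small m hl i (fun h => h1 h.symm) (fun h => h3 (by rw [h, neg_neg]))
        rw [abs_le] at hs
        have h5 : cc P m i = -1 ∨ cc P m i = 0 ∨ cc P m i = 1 := by omega
        rcases h5 with h5 | h5 | h5
        · have h6 : m + P.root i ≠ P.root i := by
            intro h
            have h7 : m = 0 := by simpa using h
            rw [h7, cc_zero] at h5
            omega
          simp [tt, ct, h1, h3, h5, h6, wt', cc_add, h2]
          split_ifs <;> rfl
        · simp [tt, ct, h1, h3, h5, wt']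
        · have h6 : m + -P.root i ≠ -P.root i := by
            intro h
            have h7 : m = 0 := by simpa using h
            rw [h7, cc_zero] at h5
            omega
          simp [tt, ct, h1, h3, h5, h6, wt', cc_add, cc_neg, h2]
  · rw [inr_mem] at hl
    simp only [tt, ct, wt', Sum.elim_inr, cc_zero, ite_self]
    simp

/-- `[E_i, F_j] = 0`. -/
theorem opE_lie_ne [Finite idx] {i j : b.support} (hij : i ≠ j) :
    opE b Λ 1 i * opE b Λ (-1) j = opE b Λ (-1) j * opE b Λ 1 i := by
  have e1 : (1 : ℤ) = 1 ∨ (1 : ℤ) = -1 := Or.inl rfl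
  have e2 : (-1 : ℤ) = 1 ∨ (-1 : ℤ) = -1 := Or.inr rfl
  have hnei := root_ne_neg_self (P := P) (i : idx)
  have hnej := root_ne_neg_self (P := P) (j : idx)
  have hii := cc_same (P := P) (i : idx)
  have hjj := cc_same (P := P) (j : idx)
  have hij1 : P.root i ≠ P.root j := root_ne b hij
  have hij2 : P.root i ≠ -P.root j := root_ne_neg b hij
  have hji1 : P.root j ≠ P.root i := hij1.symm
  have hji2 : P.root j ≠ -P.root i := fun h => hij2 (by rw [h, neg_neg])
  have hneg : -P.root j ≠ -P.root i := fun h => hji1 (neg_injective h)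
  have c1 : cc P (P.root i) j ≤ 0 := cc_le b hij
  have c2 : cc P (P.root j) i ≤ 0 := cc_le b hij.symm
  have c3 : cc P (P.root i) j = 0 ↔ cc P (P.root j) i = 0 := cc_zero_iff
  have hi0 : P.root i ≠ 0 := fun h => by
    rw [h, cc_zero] at hii; omega
  have hj0 : P.root j ≠ 0 := fun h => by
    rw [h, cc_zero] at hjj; omega
  rw [opE, opE, mono_mul (fun l hl h => tt_mem e2 j l hl h),
    mono_mul (fun l hl h => tt_mem e1 i l hl h)]
  apply mono_congr
  rintro (m | k) hl
  · rw [inl_mem] at hl
    by_cases h1 : m = P.root j
    · subst h1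
      have hs := Λ.small _ hl i hij1 hij2
      rw [abs_le] at hs
      -- left: `u_j`, then `|c| v_{a_i}`
      have hL1 : tt (-1) j (Sum.inl (P.root j) : M ⊕ b.support) = Sum.inr j := by simp [tt]
      have hL2 : ct Λ (-1) j (Sum.inl (P.root j) : M ⊕ b.support) = 1 := by simp [ct]
      rw [hL1, hL2]
      by_cases h0 : cc P (P.root j) i = 0
      · have hL3 : ct Λ 1 i (Sum.inl (P.root j) : M ⊕ b.support) = 0 := by
          simp [ct, hji2, h0]
        have hL4 : ct Λ 1 i (Sum.inr j : M ⊕ b.support) = 0 := by
          simp [ct, h0]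
        rw [hL3, hL4]
        simp
      · have h5 : cc P (P.root j) i = -1 := by omega
        have hL3 : ct Λ 1 i (Sum.inl (P.root j) : M ⊕ b.support) = 1 := by
          simp [ct, h5]
        have hL4 : tt 1 i (Sum.inl (P.root j) : M ⊕ b.support) = Sum.inl (P.root j + P.root i) := by
          simp [tt, hji2]
        have hL5 : tt 1 i (Sum.inr j : M ⊕ b.support) = Sum.inl (P.root i) := by
          simp [tt]
        have hsum : P.root j + P.root i ∈ Λ.L := by
          have := add_mem (Λ := Λ) e1 hl (a := i) (by rw [h5]; rfl)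
          simpa using this
        rw [hL3, hL4, hL5]
        have hne3 : P.root j + P.root i ≠ P.root j := by simpa using hi0
        by_cases h6 : cc P (P.root i) j = -1
        · have hi : P.root i ∈ Λ.L := by
            have := add_mem (Λ := Λ) e2 hsum (a := j) (by rw [cc_add, hjj, h6]; rfl)
            simpa using this
          have hL6 : ct Λ 1 i (Sum.inr j : M ⊕ b.support) = 1 := by
            simp [ct, hi, h5]
          have hL7 : ct Λ (-1) j (Sum.inl (P.root j + P.root i) : M ⊕ b.support) = 1 := by
            simp [ct, cc_add, hjj, h6]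
          have hL8 : tt (-1) j (Sum.inl (P.root j + P.root i) : M ⊕ b.support) =
              Sum.inl (P.root i) := by
            simp [tt, hi0]
          rw [hL6, hL7, hL8]
          simp
        · have hi : P.root i ∉ Λ.L := by
            intro hi
            have hs2 := Λ.small _ hi j hji1 hji2
            rw [abs_le] at hs2
            have : cc P (P.root i) j ≠ 0 := fun h => h0 (c3.1 h)
            omega
          have hL6 : ct Λ 1 i (Sum.inr j : M ⊕ b.support) = 0 := by
            simp [ct, hi]
          have hL7 : ct Λ (-1) j (Sum.inl (P.root j + P.root i) : M ⊕ b.support) = 0 := by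
            simp [ct, hi0]
            rw [cc_add, hjj]; omega
          rw [hL6, hL7]
          simp
    · by_cases h2 : m = -P.root i
      · subst h2
        have hli : P.root i ∈ Λ.L := root_mem_of_neg hl
        have hs := Λ.small _ hli j hji1 hji2
        rw [abs_le] at hs
        have hR1 : tt 1 i (Sum.inl (-P.root i) : M ⊕ b.support) = Sum.inr i := by simp [tt]
        have hR2 : ct Λ 1 i (Sum.inl (-P.root i) : M ⊕ b.support) = 1 := by simp [ct]
        rw [hR1, hR2]
        by_cases h0 : cc P (P.root i) j = 0
        · have hL3 : ct Λ (-1) j (Sum.inl (-P.root i) : M ⊕ b.support) = 0 := by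
            simp [ct, h1, h0, cc_neg]
          have hL4 : ct Λ (-1) j (Sum.inr i : M ⊕ b.support) = 0 := by
            simp [ct, h0]
          rw [hL3, hL4]
          simp
        · have h5 : cc P (P.root i) j = -1 := by omega
          have hL3 : ct Λ (-1) j (Sum.inl (-P.root i) : M ⊕ b.support) = 1 := by
            simp [ct, h5, cc_neg]
          have hL4 : tt (-1) j (Sum.inl (-P.root i) : M ⊕ b.support) =
              Sum.inl (-P.root i + -P.root j) := by
            simp [tt, h1]
          have hL5 : tt (-1) j (Sum.inr i : M ⊕ b.support) = Sum.inl (-P.root j) := by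
            simp [tt]
          have hsum : -P.root i + -P.root j ∈ Λ.L := by
            have := add_mem (Λ := Λ) e2 hl (a := j) (by rw [cc_neg, h5]; rfl)
            simpa using this
          rw [hL3, hL4, hL5]
          by_cases h6 : cc P (P.root j) i = -1
          · have hj : P.root j ∈ Λ.L := by
              have := add_mem (Λ := Λ) e1 hsum (a := i)
                (by rw [cc_add, cc_neg, cc_neg, hii, h6]; rfl)
              rw [one_smul, neg_add_cancel_comm] at this
              exact root_mem_of_neg this
            have hL6 : ct Λ (-1) j (Sum.inr i : M ⊕ b.support) = 1 := by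
              simp [ct, hj, h5]
            have hL7 : ct Λ 1 i (Sum.inl (-P.root i + -P.root j) : M ⊕ b.support) = 1 := by
              simp [ct, cc_add, cc_neg, hii, h6]
            have hL8 : tt 1 i (Sum.inl (-P.root i + -P.root j) : M ⊕ b.support) =
                Sum.inl (-P.root j) := by
              simp [tt, hj0]
            rw [hL6, hL7, hL8]
            simp
          · have hj : P.root j ∉ Λ.L := by
              intro hj
              have hs2 := Λ.small _ hj i hij1 hij2
              rw [abs_le] at hs2
              have : cc P (P.root j) i ≠ 0 := fun h => h0 (c3.2 h)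
              omega
            have hL6 : ct Λ (-1) j (Sum.inr i : M ⊕ b.support) = 0 := by
              simp [ct, hj]
            have hL7 : ct Λ 1 i (Sum.inl (-P.root i + -P.root j) : M ⊕ b.support) = 0 := by
              have : ¬ (cc P (-P.root i + -P.root j) i = -1) := by
                rw [cc_add, cc_neg, cc_neg, hii]; omega
              simp [ct, hj0, this]
            rw [hL6, hL7]
            simp
      · -- generic case
        have hmj : -1 ≤ cc P m j ∧ cc P m j ≤ 1 ∨ m = -P.root j := by
          by_cases h3 : m = -P.root j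
          · exact Or.inr h3
          · left
            have hs := Λ.small m hl j (fun h => h1 h.symm) (fun h => h3 (by rw [h, neg_neg]))
            rwa [abs_le] at hs
        have hmi : -1 ≤ cc P m i ∧ cc P m i ≤ 1 ∨ m = P.root i := by
          by_cases h3 : m = P.root i
          · exact Or.inr h3
          · left
            have hs := Λ.small m hl i (fun h => h3 h.symm) (fun h => h2 (by rw [h, neg_neg]))
            rwa [abs_le] at hs
        -- both sides are the composition of two translations with coefficients
        have hF : ct Λ (-1) j (Sum.inl m : M ⊕ b.support) = if cc P m j = 1 then 1 else 0 := by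
          simp [ct, h1]
        have hE : ct Λ 1 i (Sum.inl m : M ⊕ b.support) = if cc P m i = -1 then 1 else 0 := by
          simp [ct, h2]
        have tF : tt (-1) j (Sum.inl m : M ⊕ b.support) = Sum.inl (m + -P.root j) := by
          simp [tt, h1]
        have tE : tt 1 i (Sum.inl m : M ⊕ b.support) = Sum.inl (m + P.root i) := by
          simp [tt, h2]
        rw [hF, hE, tF, tE]
        have key : (cc P m j = 1 ∧ cc P m i - cc P (P.root j) i = -1) ↔
            (cc P m i = -1 ∧ cc P m j + cc P (P.root i) j = 1) := by
          constructor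
          · rintro ⟨ha, hb⟩
            have hb' : -1 ≤ cc P m i := by
              rcases hmi with h | h
              · exact h.1
              · rw [h, hii]; omega
            have h7 : cc P (P.root j) i = 0 := by omega
            have h8 := c3.2 h7
            omega
          · rintro ⟨ha, hb⟩
            have hb' : cc P m j ≤ 1 := by
              rcases hmj with h | h
              · exact h.2
              · rw [h, cc_neg, hjj]; omega
            have h7 : cc P (P.root i) j = 0 := by omega
            have h8 := c3.1 h7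
            omega
        have hA : ∀ h : cc P m j = 1, m + -P.root j ≠ -P.root i := by
          intro h h'
          have h9 : m = P.root j - P.root i := by
            rw [← sub_eq_add_neg, sub_eq_iff_eq_add] at h'
            rw [h']
            abel
          rw [h9, cc_sub, hjj] at h
          omega
        have hB : ∀ h : cc P m i = -1, m + P.root i ≠ P.root j := by
          intro h h'
          have h9 : m = P.root j - P.root i := by
            rw [eq_sub_iff_add_eq]; exact h'
          rw [h9, cc_sub, hii] at h
          omega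
        have hC : (if cc P m j = 1 then (1 : ℤ) else 0) ≠ 0 →
            ct Λ 1 i (Sum.inl (m + -P.root j) : M ⊕ b.support) =
              (if cc P m i - cc P (P.root j) i = -1 then 1 else 0) ∧
            tt 1 i (Sum.inl (m + -P.root j) : M ⊕ b.support) = Sum.inl (m + -P.root j + P.root i) := by
          intro h
          have h' : cc P m j = 1 := by
            by_contra h'
            rw [if_neg h'] at h
            exact h rfl
          have h'' := hA h'
          constructor
          · simp [ct, h'', cc_add, cc_neg, sub_eq_add_neg]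
          · simp [tt, h'']
        have hD : (if cc P m i = -1 then (1 : ℤ) else 0) ≠ 0 →
            ct Λ (-1) j (Sum.inl (m + P.root i) : M ⊕ b.support) =
              (if cc P m j + cc P (P.root i) j = 1 then 1 else 0) ∧
            tt (-1) j (Sum.inl (m + P.root i) : M ⊕ b.support) =
              Sum.inl (m + P.root i + -P.root j) := by
          intro h
          have h' : cc P m i = -1 := by
            by_contra h'
            rw [if_neg h'] at h
            exact h rfl
          have h'' := hB h'
          constructor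
          · have h3 : (-1 * cc P (m + P.root i) j = -1) ↔ cc P m j + cc P (P.root i) j = 1 := by
              rw [cc_add]; omega
            have h4 : ¬ (m + P.root i = -((-1 : ℤ) • P.root j)) := by
              rwa [neg_smul, one_smul, neg_neg]
            simp only [ct, if_neg h4, h3]
          · simp [tt, h'']
        by_cases hx : cc P m j = 1 ∧ cc P m i - cc P (P.root j) i = -1
        · have hy := key.1 hx
          have hC' := hC (by rw [if_pos hx.1]; exact one_ne_zero)
          have hD' := hD (by rw [if_pos hy.1]; exact one_ne_zero)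
          rw [hC'.1, hC'.2, hD'.1, hD'.2, if_pos hx.1, if_pos hx.2, if_pos hy.1, if_pos hy.2]
          refine ⟨rfl, fun _ => ?_⟩
          congr 1
          abel
        · have hy : ¬ (cc P m i = -1 ∧ cc P m j + cc P (P.root i) j = 1) := fun h => hx (key.2 h)
          have hLz : ct Λ 1 i (Sum.inl (m + -P.root j) : M ⊕ b.support) *
              (if cc P m j = 1 then (1 : ℤ) else 0) = 0 := by
            by_cases hz : cc P m j = 1
            · rw [(hC (by rw [if_pos hz]; exact one_ne_zero)).1, if_neg (fun h => hx ⟨hz, h⟩),
                zero_mul]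
            · rw [if_neg hz, mul_zero]
          have hRz : ct Λ (-1) j (Sum.inl (m + P.root i) : M ⊕ b.support) *
              (if cc P m i = -1 then (1 : ℤ) else 0) = 0 := by
            by_cases hz : cc P m i = -1
            · rw [(hD (by rw [if_pos hz]; exact one_ne_zero)).1, if_neg (fun h => hy ⟨hz, h⟩),
                zero_mul]
            · rw [if_neg hz, mul_zero]
          rw [hLz, hRz]
          exact ⟨rfl, fun h => absurd rfl h⟩
  · -- `u_k`
    have hL1 : tt (-1) j (Sum.inr k : M ⊕ b.support) = Sum.inl (-P.root j) := by simp [tt]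
    have hR1 : tt 1 i (Sum.inr k : M ⊕ b.support) = Sum.inl (P.root i) := by simp [tt]
    have hL2 : ct Λ 1 i (Sum.inl (-P.root j) : M ⊕ b.support) = 0 := by
      have : ¬ (cc P (P.root j) i = 1) := by omega
      simp [ct, cc_neg, this, hji1]
    have hR2 : ct Λ (-1) j (Sum.inl (P.root i) : M ⊕ b.support) = 0 := by
      have : ¬ (cc P (P.root i) j = 1) := by omega
      simp [ct, this, hij1]
    rw [hL1, hR1, hL2, hR2]
    simp

end Ops

end Groth.Agent.Redsub.H631.SmallRep
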