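import Groth.Agent.Sga3B.CellBase
import Mathlib.LinearAlgebra.Matrix.NonsingularInverse
import Mathlib.RingTheory.Flat.Basic
import Mathlib.RingTheory.TensorProduct.Maps
import Mathlib.RingTheory.Flat.Stability

/-!
# The schematic closure in `GL_J` of the image of a scheme: group structure

`D` an `R`-algebra with an invertible matrix `g` over `D` (a morphism `Spec D → GL_J`).  `clA` is the
coordinate ring of the closure of the image.  If left multiplication by the points of `D` preserves the
closure then the closure is a subgroup.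
-/

set_option autoImplicit false
universe u

open Groth.Agent.Sga3B.Cell TensorProduct

namespace Groth.Agent.Redsub.H631.X3Abs

variable {R : Type u} [CommRing R] {J : Type} [Fintype J] [DecidableEq J] {D : Type u} [CommRing D]
  [Algebra R D]

/-- The coordinate ring of the closure of the image of `(g, gi)`. -/
def clA (R : Type u) [CommRing R] {D : Type u} [CommRing D] [Algebra R D] {J : Type}
    (g gi : Matrix J J D) : Subalgebra R D :=
  Algebra.adjoin R (Set.range (fun p : J × J => g p.1 p.2) ∪ Set.range (fun p : J × J => gi p.1 p.2))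

section basic

variable (g gi : Matrix J J D)

omit [Fintype J] [DecidableEq J] in
lemma g_mem (i j : J) : g i j ∈ clA R g gi :=
  Algebra.subset_adjoin (Or.inl ⟨(i, j), rfl⟩)

omit [Fintype J] [DecidableEq J] in
lemma gi_mem (i j : J) : gi i j ∈ clA R g gi :=
  Algebra.subset_adjoin (Or.inr ⟨(i, j), rfl⟩)

/-- the universal matrix -/
def gA : Matrix J J (clA R g gi) := fun i j => ⟨g i j, g_mem g gi i j⟩

/-- the inverse of the universal matrix -/
def giA : Matrix J J (clA R g gi) := fun i j => ⟨gi i j, gi_mem g gi i j⟩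

omit [Fintype J] [DecidableEq J] in
lemma gA_map_val : (gA (R := R) g gi).map (clA R g gi).val = g := rfl

omit [Fintype J] [DecidableEq J] in
lemma giA_map_val : (giA (R := R) g gi).map (clA R g gi).val = gi := rfl

variable {g gi}

omit [Fintype J] [DecidableEq J] in
/-- A subalgebra containing the entries of both matrices is everything. -/
lemma eq_top_of (S : Subalgebra R (clA R g gi)) (h1 : ∀ i j, gA g gi i j ∈ S)
    (h2 : ∀ i j, giA g gi i j ∈ S) : S = ⊤ := by
  rw [eq_top_iff]
  rintro ⟨x, hx⟩ -
  have key : clA R g gi ≤ S.map (clA R g gi).val := by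
    refine Algebra.adjoin_le ?_
    rintro y (⟨p, rfl⟩ | ⟨p, rfl⟩)
    · exact ⟨gA g gi p.1 p.2, h1 _ _, rfl⟩
    · exact ⟨giA g gi p.1 p.2, h2 _ _, rfl⟩
  obtain ⟨y, hy, hyx⟩ := key hx
  have : y = ⟨x, hx⟩ := Subtype.ext hyx
  rwa [← this]

variable {B C : Type u} [CommRing B] [Algebra R B] [CommRing C] [Algebra R C]

omit [Fintype J] [DecidableEq J] in
lemma hom_ext' {f f' : clA R g gi →ₐ[R] B} (h1 : (gA g gi).map f = (gA g gi).map f')
    (h2 : (giA g gi).map f = (giA g gi).map f') : f = f' := by
  have h : AlgHom.equalizer f f' = ⊤ := by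
    apply eq_top_of
    · intro i j
      exact congrFun (congrFun h1 i) j
    · intro i j
      exact congrFun (congrFun h2 i) j
  ext x
  have : x ∈ AlgHom.equalizer f f' := by rw [h]; trivial
  exact this

omit [Fintype J] [DecidableEq J] in
/-- Closedness of the closure. -/
lemma exists_lift (φ : B →ₐ[R] C) (hφ : Function.Injective φ) (f : clA R g gi →ₐ[R] C)
    (m m' : Matrix J J B) (h1 : (gA g gi).map f = m.map φ) (h2 : (giA g gi).map f = m'.map φ) :
    ∃ h : clA R g gi →ₐ[R] B, φ.comp h = f := by
  have key : φ.range.comap f = ⊤ := by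
    apply eq_top_of
    · intro i j
      exact ⟨m i j, (congrFun (congrFun h1 i) j).symm⟩
    · intro i j
      exact ⟨m' i j, (congrFun (congrFun h2 i) j).symm⟩
  have hr : ∀ x, f x ∈ φ.range := by
    intro x
    have : x ∈ φ.range.comap f := by rw [key]; trivial
    exact this
  let e := AlgEquiv.ofInjective φ hφ
  refine ⟨(e.symm : φ.range →ₐ[R] B).comp (f.codRestrict φ.range hr), ?_⟩
  ext x
  have : (e (e.symm (f.codRestrict φ.range hr x)) : C) = f x := by
    rw [AlgEquiv.apply_symm_apply]
    rfl
  exact this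

end basic

section group

variable {g gi : Matrix J J D}

/-- The matrix of a point of the closure. -/
def mt {B : Type u} [CommRing B] [Algebra R B] (f : clA R g gi →ₐ[R] B) : Matrix J J B :=
  (gA g gi).map f

/-- The inverse matrix of a point of the closure. -/
def mti {B : Type u} [CommRing B] [Algebra R B] (f : clA R g gi →ₐ[R] B) : Matrix J J B :=
  (giA g gi).map f

variable (hg : g * gi = 1) {B C : Type u} [CommRing B] [Algebra R B] [CommRing C] [Algebra R C]

include hg in
lemma gA_mul_giA : gA (R := R) g gi * giA g gi = 1 := by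
  ext i j
  have h := congrFun (congrFun hg i) j
  have h2 : (((gA (R := R) g gi * giA g gi : Matrix J J (clA R g gi)) i j : clA R g gi) : D) =
      (g * gi) i j := by
    simp only [Matrix.mul_apply]
    rw [AddSubmonoidClass.coe_finsetSum]
    rfl
  rw [h2, h]
  by_cases hij : i = j
  · rw [hij, Matrix.one_apply_eq, Matrix.one_apply_eq]; rfl
  · rw [Matrix.one_apply_ne hij, Matrix.one_apply_ne hij]; rfl

include hg in
lemma mt_mul_mti (f : clA R g gi →ₐ[R] B) : mt f * mti f = 1 := by
  have h := congrArg (fun X => X.map f) (gA_mul_giA (R := R) hg)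
  simp only [Matrix.map_mul] at h
  rw [Matrix.map_one f (map_zero f) (map_one f)] at h
  exact h

include hg in
lemma mti_mul_mt (f : clA R g gi →ₐ[R] B) : mti f * mt f = 1 :=
  mul_eq_one_comm.1 (mt_mul_mti hg f)

include hg in
lemma mti_unique {f : clA R g gi →ₐ[R] B} {X : Matrix J J B} (h : mt f * X = 1) : mti f = X := by
  have h1 := mti_mul_mt hg f
  calc mti f = mti f * (mt f * X) := by rw [h, mul_one]
    _ = X := by rw [← mul_assoc, h1, one_mul]

include hg in
lemma hom_ext {f f' : clA R g gi →ₐ[R] B} (h : mt f = mt f') : f = f' := by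
  apply hom_ext' h
  apply mti_unique hg
  rw [h]
  exact mt_mul_mti hg f'

omit [Fintype J] [DecidableEq J] in
lemma mt_comp (φ : B →ₐ[R] C) (f : clA R g gi →ₐ[R] B) : mt (φ.comp f) = (mt f).map φ := by
  ext i j
  rfl

omit [Fintype J] [DecidableEq J] in
lemma mti_comp (φ : B →ₐ[R] C) (f : clA R g gi →ₐ[R] B) : mti (φ.comp f) = (mti f).map φ := by
  ext i j
  rfl

include hg in
lemma exists_lift' (φ : B →ₐ[R] C) (hφ : Function.Injective φ) (f : clA R g gi →ₐ[R] C)
    (m m' : Matrix J J B) (h1 : mt f = m.map φ) (hm : m * m' = 1) :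
    ∃ h : clA R g gi →ₐ[R] B, φ.comp h = f := by
  refine exists_lift φ hφ f m m' h1 (mti_unique hg ?_)
  rw [h1, ← Matrix.map_mul, hm, Matrix.map_one φ (map_zero φ) (map_one φ)]

/-- Stability data making the closure a group. -/
structure Stab (R : Type u) [CommRing R] {D : Type u} [CommRing D] [Algebra R D] {J : Type}
    [Fintype J] [DecidableEq J] (g gi : Matrix J J D) : Prop where
  flat : Module.Flat R (clA R g gi)
  hg : g * gi = 1
  one : ∃ e : clA R g gi →ₐ[R] R, mt e = 1
  mul : ∀ {B : Type u} [CommRing B] [Algebra R B] (f : D →ₐ[R] B) (h : clA R g gi →ₐ[R] B),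
    ∃ k : clA R g gi →ₐ[R] B, mt k = g.map f * mt h
  inv : ∃ k : clA R g gi →ₐ[R] D, mt k = gi

variable (H : Stab R g gi)
include H

/-- Comultiplication. -/
lemma exists_comul : ∃ Δ : clA R g gi →ₐ[R] (clA R g gi) ⊗[R] (clA R g gi),
    mt Δ = (gA g gi).map (Algebra.TensorProduct.includeLeft (R := R) (S := R)) *
      (gA g gi).map (Algebra.TensorProduct.includeRight (R := R)) := by
  have := H.flat
  obtain ⟨k, hk⟩ := H.mul (Algebra.TensorProduct.includeLeft (R := R) (S := R) (A := D)
    (B := clA R g gi)) Algebra.TensorProduct.includeRight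
  let φ : (clA R g gi) ⊗[R] (clA R g gi) →ₐ[R] D ⊗[R] (clA R g gi) :=
    Algebra.TensorProduct.map (clA R g gi).val (AlgHom.id R _)
  have hφ : Function.Injective φ :=
    Module.Flat.rTensor_preserves_injective_linearMap (M := clA R g gi)
      (clA R g gi).val.toLinearMap Subtype.val_injective
  have hL : (g.map (Algebra.TensorProduct.includeLeft (R := R) (S := R) (A := D)
      (B := clA R g gi))) = ((gA g gi).map (Algebra.TensorProduct.includeLeft (R := R) (S := R)
        (A := clA R g gi) (B := clA R g gi))).map φ := by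
    ext i j
    simp [φ, gA]
  have hR : (mt (Algebra.TensorProduct.includeRight (R := R) (A := D) (B := clA R g gi)) :
      Matrix J J (D ⊗[R] (clA R g gi))) = ((gA g gi).map (Algebra.TensorProduct.includeRight
        (R := R) (A := clA R g gi) (B := clA R g gi))).map φ := by
    ext i j
    simp [φ, mt]
  rw [hL, hR, ← Matrix.map_mul] at hk
  have h1 := mt_mul_mti H.hg (Algebra.TensorProduct.includeLeft (R := R) (S := R)
        (A := clA R g gi) (B := clA R g gi))
  have h2 := mt_mul_mti H.hg (Algebra.TensorProduct.includeRight (R := R)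
        (A := clA R g gi) (B := clA R g gi))
  obtain ⟨Δ, hΔ⟩ := exists_lift' H.hg φ hφ k _ (mti (Algebra.TensorProduct.includeRight (R := R)
        (A := clA R g gi) (B := clA R g gi)) * mti (Algebra.TensorProduct.includeLeft (R := R)
        (S := R) (A := clA R g gi) (B := clA R g gi))) hk (by
      rw [← mul_assoc, mul_assoc (Matrix.map _ _)]
      change mt _ * (mt _ * mti _) * mti _ = 1
      rw [h2, mul_one, h1])
  refine ⟨Δ, ?_⟩
  apply Matrix.map_injective hφ
  exact (congrArg mt hΔ).trans hk

lemma exists_mul {B : Type u} [CommRing B] [Algebra R B] (f f' : clA R g gi →ₐ[R] B) :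
    ∃ k : clA R g gi →ₐ[R] B, mt k = mt f * mt f' := by
  obtain ⟨Δ, hΔ⟩ := exists_comul H
  refine ⟨(Algebra.TensorProduct.productMap f f').comp Δ, ?_⟩
  rw [mt_comp, hΔ, Matrix.map_mul]
  congr 1 <;> · ext i j; simp [mt]

lemma exists_inv {B : Type u} [CommRing B] [Algebra R B] (f : clA R g gi →ₐ[R] B) :
    ∃ k : clA R g gi →ₐ[R] B, mt k = mti f := by
  obtain ⟨k, hk⟩ := H.inv
  obtain ⟨s, hs⟩ := exists_lift' H.hg (clA R g gi).val Subtype.val_injective k (giA g gi) (gA g gi)
    (by rw [hk]; rfl) (mul_eq_one_comm.1 (gA_mul_giA H.hg))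
  refine ⟨f.comp s, ?_⟩
  rw [mt_comp]
  have : mt s = giA g gi := by
    apply Matrix.map_injective (f := (clA R g gi).val) Subtype.val_injective
    exact (congrArg mt hs).trans hk
  rw [this]
  rfl

lemma exists_one (B : Type u) [CommRing B] [Algebra R B] :
    ∃ k : clA R g gi →ₐ[R] B, mt k = 1 := by
  obtain ⟨e, he⟩ := H.one
  refine ⟨(Algebra.ofId R B).comp e, ?_⟩
  rw [mt_comp, he, Matrix.map_one _ (map_zero _) (map_one _)]

/-- The group structure on the points of the closure. -/
noncomputable def grp (B : Type u) [CommRing B] [Algebra R B] : Group (Pt R (clA R g gi) B) where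
  mul f f' := Pt.mk (exists_mul H f.hom f'.hom).choose
  one := Pt.mk (exists_one H B).choose
  inv f := Pt.mk (exists_inv H f.hom).choose
  mul_assoc f f' f'' := by
    refine hom_ext H.hg ?_
    have e := fun f f' : clA R g gi →ₐ[R] B => (exists_mul H f f').choose_spec
    refine (e _ _).trans (((congrArg (fun X => X * mt f''.hom) (e f.hom f'.hom)).trans
      (mul_assoc _ _ _)).trans ?_)
    exact ((e _ _).trans (congrArg (fun X => mt f.hom * X) (e f'.hom f''.hom))).symm
  one_mul f := by
    refine hom_ext H.hg ?_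
    exact ((exists_mul H _ _).choose_spec).trans
      ((congrArg (fun X => X * mt f.hom) (exists_one H B).choose_spec).trans (one_mul _))
  mul_one f := by
    refine hom_ext H.hg ?_
    exact ((exists_mul H _ _).choose_spec).trans
      ((congrArg (fun X => mt f.hom * X) (exists_one H B).choose_spec).trans (mul_one _))
  inv_mul_cancel f := by
    refine hom_ext H.hg ?_
    exact ((exists_mul H _ _).choose_spec).trans
      (((congrArg (fun X => X * mt f.hom) (exists_inv H f.hom).choose_spec).trans
        (mti_mul_mt H.hg _)).trans (exists_one H B).choose_spec.symm)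

/-- The group functor. -/
@[reducible] noncomputable def ptGrp : PtGrp R (clA R g gi) where
  grp := grp H
  map_mul' {B C} _ _ _ _ φ f f' := by
    refine hom_ext H.hg ?_
    refine (mt_comp φ _).trans ?_
    refine (congrArg (fun X => X.map φ) (exists_mul H f.hom f'.hom).choose_spec).trans ?_
    rw [Matrix.map_mul]
    exact (exists_mul H (Pt.map φ f).hom (Pt.map φ f').hom).choose_spec.symm

lemma mt_mul {B : Type u} [CommRing B] [Algebra R B] (f f' : Pt R (clA R g gi) B) :
    letI := ptGrp H
    mt (f * f').hom = mt f.hom * mt f'.hom :=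
  (exists_mul H f.hom f'.hom).choose_spec

lemma mt_one {B : Type u} [CommRing B] [Algebra R B] :
    letI := ptGrp H
    mt (1 : Pt R (clA R g gi) B).hom = 1 :=
  (exists_one H B).choose_spec

/-- The matrix homomorphism. -/
noncomputable def matHom (B : Type u) [CommRing B] [Algebra R B] :
    letI := ptGrp H
    Pt R (clA R g gi) B →* Matrix J J B :=
  letI := ptGrp H
  { toFun := fun f => mt f.hom
    map_one' := mt_one H
    map_mul' := mt_mul H }

end group

end Groth.Agent.Redsub.H631.X3Abs
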