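import Groth.Agent.RedSub.H630.CellLift

/-!
# Calculus of cell matrices of a Chevalley system

Left multiplication of a cell matrix by `u_{-a}(t)`, by a torus element, and by `u_a(t)` when
`1 + t x_{-a}` is invertible (`a` simple).
-/

set_option autoImplicit false
universe u

open Groth.Agent.Sga3B.Cell Groth.Agent.RedSub.H630.ChevDefs Groth.Agent.RedSub.H630.CellLift

namespace Groth.Agent.Redsub.H631.X3Calc

variable {idx M : Type} [AddCommGroup M] {P : RootPairing idx ℤ M (Module.Dual ℤ M)} {b : P.Base}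
  (S : ChevSys.{u} P b) {B : Type u} [CommRing B] {C : Type u} [CommRing C]

/-- root matrices -/
noncomputable def uM (a : idx) (x : B) : Matrix S.J S.J B := uMat (S.E a) S.N x

lemma N_pos (a : idx) : 0 < S.N := by
  have : Nonempty idx := ⟨a⟩
  have := two_le (S := S)
  omega

lemma uM_zero (a : idx) : uM S a (0 : B) = 1 := Groth.Agent.RedSub.H630.UMat.uMat_zero (N_pos S a) (S.E_zero a)

lemma uM_add (a : idx) (x y : B) : uM S a x * uM S a y = uM S a (x + y) :=
  Groth.Agent.RedSub.H630.UMat.uMat_add (S.E_mul a) (S.E_van a) x y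

lemma uM_mul_neg (a : idx) (x : B) : uM S a x * uM S a (-x) = 1 := by
  rw [uM_add, add_neg_cancel, uM_zero]

lemma uM_neg_mul (a : idx) (x : B) : uM S a (-x) * uM S a x = 1 := by
  rw [uM_add, neg_add_cancel, uM_zero]

lemma uM_map (f : B →+* C) (a : idx) (x : B) : (uM S a x).map f = uM S a (f x) :=
  Groth.Agent.RedSub.H630.UMat.uMat_map f x

lemma tM_mul (s t : TPt M B) : tMat S.wt s * tMat S.wt t = tMat S.wt (s * t) :=
  (Groth.Agent.RedSub.H630.Assemble.tMat_mul S.wt s t).symm

lemma tM_one : tMat S.wt (1 : TPt M B) = 1 := Groth.Agent.RedSub.H630.Assemble.tMat_one S.wt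

lemma tM_uM (a : idx) (t : TPt M B) (x : B) :
    tMat S.wt t * uM S a x = uM S a (TPt.ch (P.root a) t * x) * tMat S.wt t :=
  Groth.Agent.RedSub.H630.Assemble.tMat_mul_uMat S.wt (S.E a) S.N (P.root a) (S.E_wt a) t x

lemma tM_prodM (L : List idx) (t : TPt M B) (x : idx → B) :
    tMat S.wt t * prodM S L x = prodM S L (fun a => TPt.ch (P.root a) t * x a) * tMat S.wt t := by
  unfold prodM
  induction L with
  | nil => simp
  | cons a L ih =>
    simp only [List.map_cons, List.prod_cons]
    have h := tM_uM S a t (x a)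
    unfold uM at h
    rw [← mul_assoc, h, mul_assoc, ih, ← mul_assoc]

lemma uM_tM (a : idx) (t : TPt M B) (x : B) :
    uM S a x * tMat S.wt t = tMat S.wt t * uM S a (TPt.ch (-P.root a) t * x) := by
  rw [tM_uM, ← mul_assoc, ← TPt.ch_add, add_neg_cancel, TPt.ch_zero, one_mul]

lemma prodM_single [DecidableEq idx] (L : List idx) (hL : L.Nodup) {a : idx} (ha : a ∈ L) (x : B) :
    prodM S L (Pi.single a x) = uM S a x := by
  have key : ∀ L : List idx, L.Nodup →
      (L.map (fun c => uMat (S.E c) S.N ((Pi.single a x : idx → B) c))).prod =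
        if a ∈ L then uM S a x else 1 := by
    intro L
    induction L with
    | nil => simp
    | cons c L ih =>
      intro hL
      rw [List.nodup_cons] at hL
      rw [List.map_cons, List.prod_cons, ih hL.2]
      by_cases hc : c = a
      · subst hc
        rw [Pi.single_eq_same, if_neg hL.1, if_pos List.mem_cons_self, mul_one]
        rfl
      · have h0 := uM_zero S (B := B) c
        unfold uM at h0
        rw [Pi.single_eq_of_ne hc, h0, one_mul]
        have : (a ∈ c :: L) ↔ a ∈ L := by
          rw [List.mem_cons]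
          constructor
          · rintro (h | h)
            · exact absurd h.symm hc
            · exact h
          · exact Or.inr
        simp only [this]
  rw [prodM, key L hL, if_pos ha]

lemma prodM_zero (L : List idx) : prodM S L (fun _ => (0 : B)) = 1 := by
  unfold prodM
  apply List.prod_eq_one
  intro y hy
  obtain ⟨a, _, rfl⟩ := List.mem_map.mp hy
  exact uM_zero S a

/-- `-a` is negative -/
lemma not_isPos_refl {a : idx} (ha : a ∈ b.support) : ¬ b.IsPos (P.reflectionPerm a a) := by
  have h1 : b.IsPos a := RootPairing.Base.isPos_of_mem_support ha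
  intro h2
  exact (RootPairing.Base.IsPos.neg_iff_not b a).mp h2 h1

lemma neg_mem {a : idx} (ha : a ∈ b.support) : P.reflectionPerm a a ∈ S.negL :=
  (S.mem_negL _).mpr (not_isPos_refl ha)

lemma pos_mem {a : idx} (ha : a ∈ b.support) : a ∈ S.posL :=
  (S.mem_posL _).mpr (RootPairing.Base.isPos_of_mem_support ha)

lemma exists_neg_mul (x y : idx → B) : ∃ z : idx → B,
    prodM S S.negL x * prodM S S.negL y = prodM S S.negL z ∧ ∀ a ∈ b.support,
      z (P.reflectionPerm a a) = x (P.reflectionPerm a a) + y (P.reflectionPerm a a) :=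
  S.neg_mul x y

lemma exists_pos_mul (x y : idx → B) : ∃ z : idx → B,
    prodM S S.posL x * prodM S S.posL y = prodM S S.posL z ∧ ∀ a ∈ b.support, z a = x a + y a :=
  S.pos_mul x y

/-- splitting off the simple factor on the left -/
lemma exists_neg_split {a : idx} (ha : a ∈ b.support) (x : idx → B) : ∃ z : idx → B,
    z (P.reflectionPerm a a) = 0 ∧ prodM S S.negL x =
      uM S (P.reflectionPerm a a) (x (P.reflectionPerm a a)) * prodM S S.negL z := by
  classical
  obtain ⟨z, hz, hz'⟩ := exists_neg_mul S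
    (Pi.single (P.reflectionPerm a a) (-x (P.reflectionPerm a a))) x
  refine ⟨z, ?_, ?_⟩
  · rw [hz' a ha, Pi.single_eq_same, neg_add_cancel]
  · rw [← hz, prodM_single S _ S.negL_nodup (neg_mem S ha), ← mul_assoc, uM_mul_neg, one_mul]

/-- left multiplication of a cell matrix by `u_{-a}(t)` -/
lemma cell_neg {a : idx} (ha : a ∈ b.support) (t : B) (x : idx → B) (τ : TPt M B) :
    ∃ x' : idx → B, uM S (P.reflectionPerm a a) t * cellM S x τ = cellM S x' τ := by
  classical
  obtain ⟨z, hz, -⟩ := exists_neg_mul S (Pi.single (P.reflectionPerm a a) t) x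
  refine ⟨fun c => if b.IsPos c then x c else z c, ?_⟩
  have e1 : prodM S S.negL (fun c => if b.IsPos c then x c else z c) = prodM S S.negL z :=
    prodM_congr _ fun c hc => (if_neg ((S.mem_negL c).mp hc))
  have e2 : prodM S S.posL (fun c => if b.IsPos c then x c else z c) = prodM S S.posL x :=
    prodM_congr _ fun c hc => (if_pos ((S.mem_posL c).mp hc))
  rw [cellM_eq, cellM_eq, e1, e2, ← mul_assoc, ← mul_assoc,
    ← prodM_single S _ S.negL_nodup (neg_mem S ha), hz]

/-- left multiplication of a cell matrix by a torus element -/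
lemma cell_torus (w : TPt M B) (x : idx → B) (τ : TPt M B) :
    ∃ x' : idx → B, tMat S.wt w * cellM S x τ = cellM S x' (w * τ) := by
  classical
  refine ⟨fun c => if b.IsPos c then x c else TPt.ch (P.root c) w * x c, ?_⟩
  have e1 : prodM S S.negL (fun c => if b.IsPos c then x c else TPt.ch (P.root c) w * x c) =
      prodM S S.negL (fun c => TPt.ch (P.root c) w * x c) :=
    prodM_congr _ fun c hc => (if_neg ((S.mem_negL c).mp hc))
  have e2 : prodM S S.posL (fun c => if b.IsPos c then x c else TPt.ch (P.root c) w * x c) =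
      prodM S S.posL x :=
    prodM_congr _ fun c hc => (if_pos ((S.mem_posL c).mp hc))
  rw [cellM_eq, cellM_eq, e1, e2, ← mul_assoc, ← mul_assoc, tM_prodM, mul_assoc _ (tMat S.wt w),
    tM_mul]

/-- left multiplication of a cell matrix by `u_a(t)` when `1 + t x_{-a}` is invertible -/
lemma cell_pos {a : idx} (ha : a ∈ b.support) (t : B) (x : idx → B) (τ : TPt M B) (v : Bˣ)
    (hv : (v : B) = 1 + t * x (P.reflectionPerm a a)) :
    ∃ (x' : idx → B) (τ' : TPt M B), uM S a t * cellM S x τ = cellM S x' τ' := by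
  classical
  set a' := P.reflectionPerm a a with ha'
  obtain ⟨z, hz0, hz⟩ := exists_neg_split S ha x
  rw [← ha'] at hz0 hz
  have h1 : uM S a t * uM S a' (x a') =
      uM S a' ((v⁻¹ : Bˣ) * x a') * tMat S.wt (TPt.cow (P.coroot a) v) *
        uM S a ((v⁻¹ : Bˣ) * t) := S.rank1 a ha t (x a') v hv
  obtain ⟨z1, hz10, hz1⟩ := S.neg_norm a ha ((v⁻¹ : Bˣ) * t) z hz0
  have h2 : uM S a ((v⁻¹ : Bˣ) * t) * prodM S S.negL z =
    prodM S S.negL z1 * uM S a ((v⁻¹ : Bˣ) * t) := hz1
  -- move everything
  obtain ⟨y, hy, -⟩ := exists_pos_mul S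
    (Pi.single a (TPt.ch (-P.root a) τ * ((v⁻¹ : Bˣ) * t))) x
  rw [prodM_single S _ S.posL_nodup (pos_mem S ha)] at hy
  set w := TPt.cow (P.coroot a) v with hw
  have h3 := tM_prodM S S.negL w z1
  obtain ⟨z2, hz2, -⟩ := exists_neg_mul S (Pi.single a' ((v⁻¹ : Bˣ) * x a'))
    (fun c => TPt.ch (P.root c) w * z1 c)
  rw [prodM_single S _ S.negL_nodup (neg_mem S ha)] at hz2
  refine ⟨fun c => if b.IsPos c then y c else z2 c, w * τ, ?_⟩
  have e1 : prodM S S.negL (fun c => if b.IsPos c then y c else z2 c) = prodM S S.negL z2 :=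
    prodM_congr _ fun c hc => (if_neg ((S.mem_negL c).mp hc))
  have e2 : prodM S S.posL (fun c => if b.IsPos c then y c else z2 c) = prodM S S.posL y :=
    prodM_congr _ fun c hc => (if_pos ((S.mem_posL c).mp hc))
  rw [cellM_eq, cellM_eq, e1, e2, hz]
  calc uM S a t * (uM S a' (x a') * prodM S S.negL z * tMat S.wt τ * prodM S S.posL x)
      = (uM S a t * uM S a' (x a')) * prodM S S.negL z * tMat S.wt τ * prodM S S.posL x := by
        simp only [mul_assoc]
    _ = uM S a' ((v⁻¹ : Bˣ) * x a') * tMat S.wt w * (uM S a ((v⁻¹ : Bˣ) * t) *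
          prodM S S.negL z) * tMat S.wt τ * prodM S S.posL x := by
        rw [h1]; simp only [mul_assoc]
    _ = uM S a' ((v⁻¹ : Bˣ) * x a') * (tMat S.wt w * prodM S S.negL z1) *
          (uM S a ((v⁻¹ : Bˣ) * t) * tMat S.wt τ) * prodM S S.posL x := by
        rw [h2]; simp only [mul_assoc]
    _ = (uM S a' ((v⁻¹ : Bˣ) * x a') * prodM S S.negL (fun c => TPt.ch (P.root c) w * z1 c)) *
          (tMat S.wt w * tMat S.wt τ) *
          (uM S a (TPt.ch (-P.root a) τ * ((v⁻¹ : Bˣ) * t)) * prodM S S.posL x) := by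
        rw [h3, uM_tM]; simp only [mul_assoc]
    _ = prodM S S.negL z2 * tMat S.wt (w * τ) * prodM S S.posL y := by
        rw [hz2, hy, tM_mul]

end Groth.Agent.Redsub.H631.X3Calc
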