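import Groth.Agent.Redsub.H631.X3Calc
import Groth.Agent.Redsub.H631.X3Abs
import Groth.Agent.RedSub.H549.ClosDefs

/-!
# The closure of the big cell in `GL_J` is a group

`S` a Chevalley system, `D` a domain over `R` with a universal point `(xD, tD)` of `𝔸^idx × D(M)`.  Left
multiplication by all root elements and torus elements preserves the closure of the cell; hence the
closure is a group (`stab`).
-/

set_option autoImplicit false
universe u

open Groth.Agent.Sga3B.Cell Groth.Agent.RedSub.H630.ChevDefs Groth.Agent.RedSub.H630.CellLift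
  Groth.Agent.Redsub.H631.X3Calc
open Groth.Agent.RedSub.H549.Clos (cm cmI)
open Groth.Agent.Redsub.H631.X3Abs (clA gA giA exists_lift' gA_mul_giA mt_comp Stab)
open Polynomial (X C)

namespace Groth.Agent.Redsub.H631.X3Stab

variable {idx M : Type} [AddCommGroup M] {P : RootPairing idx ℤ M (Module.Dual ℤ M)} {b : P.Base}
  (S : ChevSys.{u} P b) {R : Type u} [CommRing R] {B : Type u} [CommRing B] [Algebra R B]
  {B' : Type u} [CommRing B'] [Algebra R B']

/-! ### matrices -/

lemma cellM_mapAlg (φ : B →ₐ[R] B') (x : idx → B) (t : TPt M B) :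
    (cellM S x t).map φ = cellM S (fun a => φ (x a)) (TPt.map φ t) :=
  cellM_map (S := S) (φ : B →+* B') _ _

lemma prodM_mul_reverse (L : List idx) (x : idx → B) :
    (L.map fun a => uMat (S.E a) S.N (x a)).prod *
      (L.reverse.map fun a => uMat (S.E a) S.N (-x a)).prod = 1 := by
  induction L with
  | nil => simp
  | cons a L ih =>
    rw [List.map_cons, List.prod_cons, List.reverse_cons, List.map_append, List.prod_append,
      List.map_cons, List.map_nil, List.prod_cons, List.prod_nil, mul_one]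
    have h := uM_mul_neg S a (x a)
    unfold uM at h
    rw [mul_assoc, ← mul_assoc (List.prod _) (List.prod _), ih, one_mul, h]

lemma cm_mul_cmI (x : idx → B) (t : TPt M B) : cm S x t * cmI S x t = 1 := by
  have h1 := prodM_mul_reverse S S.negL x
  have h2 := prodM_mul_reverse S S.posL x
  have h3 : t * t⁻¹ = 1 := mul_inv_cancel t
  rw [cm, cmI, mul_assoc, ← mul_assoc (List.prod _) (_ * _), ← mul_assoc (List.prod _) (List.prod _),
    h2, one_mul, mul_assoc, ← mul_assoc (tMat S.wt t), tM_mul, h3, tM_one, one_mul, h1]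

/-! ### The universal step -/

/-- `(xD, tD)` is a (weakly) universal point of `𝔸^idx × D(M)`. -/
def UCell (R : Type u) [CommRing R] {D : Type u} [CommRing D] [Algebra R D] (xD : idx → D)
    (tD : TPt M D) : Prop :=
  ∀ {B : Type u} [CommRing B] [Algebra R B] (x : idx → B) (t : TPt M B),
    ∃ f : D →ₐ[R] B, (∀ a, f (xD a) = x a) ∧ TPt.map f tD = t

variable (R) {D : Type u} [CommRing D] [Algebra R D] (xD : idx → D) (tD : TPt M D)

/-- the coordinate ring of the closure -/
noncomputable abbrev Cl : Subalgebra R D := clA R (cm S xD tD) (cmI S xD tD)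

variable {R xD tD} (U : UCell R xD tD)

include U in
/-- If over an extension `K` the matrix `m` becomes a cell matrix then it is a point of the
closure. -/
lemma exists_point {K : Type u} [CommRing K] [Algebra R K] (φ : B →ₐ[R] K)
    (hφ : Function.Injective φ) (m m' : Matrix S.J S.J B) (hm : m * m' = 1) (x' : idx → K)
    (τ' : TPt M K) (h : m.map φ = cellM S x' τ') :
    ∃ k : Cl S R xD tD →ₐ[R] B, X3Abs.mt k = m := by
  obtain ⟨f, hf1, hf2⟩ := U x' τ'
  have h1 : X3Abs.mt (f.comp (Cl S R xD tD).val) = m.map φ := by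
    have h2 : (cm S xD tD).map f = cellM S x' τ' := by
      refine (cellM_mapAlg S f xD tD).trans ?_
      rw [hf2]
      congr 1
      funext a
      exact hf1 a
    rw [h, ← h2]
    rfl
  obtain ⟨k, hk⟩ := exists_lift' (cm_mul_cmI S xD tD) φ hφ _ m m' h1 hm
  refine ⟨k, ?_⟩
  apply Matrix.map_injective hφ
  exact (congrArg X3Abs.mt hk).trans h1

/-- Left multiplication by `m` preserves the closure. -/
def LS (R : Type u) [CommRing R] {D : Type u} [CommRing D] [Algebra R D] (xD : idx → D)
    (tD : TPt M D) {B : Type u} [CommRing B] [Algebra R B] (m : Matrix S.J S.J B) : Prop :=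
  ∀ h : Cl S R xD tD →ₐ[R] B, ∃ k : Cl S R xD tD →ₐ[R] B, X3Abs.mt k = m * X3Abs.mt h

variable {S}

lemma LS.mul {m m' : Matrix S.J S.J B} (hm : LS S R xD tD m) (hm' : LS S R xD tD m') :
    LS S R xD tD (m * m') := by
  intro h
  obtain ⟨k, hk⟩ := hm' h
  obtain ⟨k', hk'⟩ := hm k
  exact ⟨k', by rw [hk', hk, mul_assoc]⟩

lemma LS.one : LS S R xD tD (1 : Matrix S.J S.J B) := fun h => ⟨h, (one_mul _).symm⟩

lemma LS.prod (L : List (Matrix S.J S.J B)) (h : ∀ m ∈ L, LS S R xD tD m) :
    LS S R xD tD L.prod := by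
  induction L with
  | nil => exact LS.one
  | cons a L ih =>
    rw [List.prod_cons]
    exact (h a List.mem_cons_self).mul (ih fun m hm => h m (List.mem_cons_of_mem _ hm))

variable (S)

lemma one_add_ne (K₀ : Type u) [CommRing K₀] [Nontrivial K₀] (s : K₀) :
    (1 : Polynomial K₀) + X * C s ≠ 0 := by
  intro h
  have := congrArg (fun p => Polynomial.coeff p 0) h
  simp at this

/-- Adjoining a universal torus point. -/
lemma exists_torus_ring (M : Type) [AddCommGroup M] {A₀ D₀ : Type u} [CommRing A₀] [Algebra R A₀]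
    [CommRing D₀] [Algebra R D₀] (f : A₀ →ₐ[R] D₀) (hf : Function.Injective f) :
    ∃ (A₁ D₁ : Type u) (_ : CommRing A₁) (_ : Algebra R A₁) (_ : CommRing D₁) (_ : Algebra R D₁)
      (φ : A₁ →ₐ[R] D₁) (ιA : A₀ →ₐ[R] A₁) (ιD : D₀ →ₐ[R] D₁) (w : TPt M A₁),
      Function.Injective φ ∧ φ.comp ιA = ιD.comp f ∧
      ∀ {B : Type u} [CommRing B] [Algebra R B] (h : A₀ →ₐ[R] B) (t : TPt M B),
        ∃ ρ : A₁ →ₐ[R] B, ρ.comp ιA = h ∧ TPt.map ρ w = t := by
  let G := Multiplicative M
  let φ : MonoidAlgebra A₀ G →ₐ[R] MonoidAlgebra D₀ G := MonoidAlgebra.mapAlgHom G f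
  have hφ : Function.Injective φ := by
    intro p q h
    apply MonoidAlgebra.coeff_injective
    ext m
    have h1 := congrArg (fun r : MonoidAlgebra D₀ G => r.coeff m) h
    simp only [φ, MonoidAlgebra.coeff_mapAlgHom] at h1
    exact hf h1
  let w : TPt M (MonoidAlgebra A₀ G) := MonoidHom.toHomUnits (MonoidAlgebra.of A₀ G)
  let ιA : A₀ →ₐ[R] MonoidAlgebra A₀ G := IsScalarTower.toAlgHom R A₀ (MonoidAlgebra A₀ G)
  let ιD : D₀ →ₐ[R] MonoidAlgebra D₀ G := IsScalarTower.toAlgHom R D₀ (MonoidAlgebra D₀ G)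
  refine ⟨MonoidAlgebra A₀ G, MonoidAlgebra D₀ G, inferInstance, inferInstance, inferInstance,
    inferInstance, φ, ιA, ιD, w, hφ, ?_, ?_⟩
  · ext a
    simp [φ, ιA, ιD]
  · intro B _ _ h t
    let ρ : MonoidAlgebra A₀ G →ₐ[R] B :=
      MonoidAlgebra.liftNCAlgHom h ((Units.coeHom B).comp t) (fun _ _ => Commute.all _ _)
    refine ⟨ρ, ?_, ?_⟩
    · ext a
      simp [ρ, ιA]
    · apply TPt.ext_ch
      intro m
      change ρ (MonoidAlgebra.single (Multiplicative.ofAdd m) 1) = _
      simp [ρ, TPt.ch]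

section dom

variable [IsDomain D]

omit [IsDomain D] in
/-- the matrix of the universal point over the polynomial ring -/
lemma mt_map_C (h : Cl S R xD tD →ₐ[R] B) (t : B) (hc : ∀ a, Commute (h a) t) :
    ((gA (R := R) (cm S xD tD) (cmI S xD tD)).map (C : Cl S R xD tD →+* _)).map
      (Polynomial.eval₂AlgHom h t hc) = X3Abs.mt h := by
  ext i j
  simp [X3Abs.mt, Matrix.map_apply]

include U in
/-- universal form of left multiplication by a root element -/
lemma exists_univ (c : idx) (H : ∀ (K : Type u) [Field K] (t : K) (x : idx → K) (τ : TPt M K),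
    (1 + t * x c ≠ 0) → ∃ (x' : idx → K) (τ' : TPt M K), uM S (P.reflectionPerm c c) t *
      cellM S x τ = cellM S x' τ') :
    ∃ k : Cl S R xD tD →ₐ[R] Polynomial (Cl S R xD tD), X3Abs.mt k =
      uM S (P.reflectionPerm c c) X *
        (gA (R := R) (cm S xD tD) (cmI S xD tD)).map (C : Cl S R xD tD →+* _) := by
  classical
  let A := Cl S R xD tD
  let K := FractionRing (Polynomial D)
  let φ : Polynomial A →ₐ[R] K :=
    (IsScalarTower.toAlgHom R (Polynomial D) K).comp (Polynomial.mapAlgHom A.val)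
  have hφ : Function.Injective φ := by
    have h1 : Function.Injective (algebraMap (Polynomial D) K) :=
      IsFractionRing.injective (Polynomial D) K
    exact h1.comp (Polynomial.map_injective _ Subtype.val_injective)
  let ψ : D →ₐ[R] K := (IsScalarTower.toAlgHom R (Polynomial D) K).comp
    (IsScalarTower.toAlgHom R D (Polynomial D))
  let x : idx → K := fun a => ψ (xD a)
  let τ : TPt M K := TPt.map ψ tD
  let T : K := algebraMap (Polynomial D) K X
  have hne : (1 + T * x c) ≠ 0 := by
    have h2 := one_add_ne D (xD c)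
    have h3 : algebraMap (Polynomial D) K (1 + X * C (xD c)) ≠ 0 := by
      rwa [Ne, FaithfulSMul.algebraMap_eq_zero_iff]
    have h4 : algebraMap (Polynomial D) K (1 + X * C (xD c)) = 1 + T * x c := by
      rw [map_add, map_one, map_mul]
      rfl
    rwa [h4] at h3
  obtain ⟨x', τ', hx'⟩ := H K T x τ hne
  refine exists_point S U φ hφ _ ((giA (R := R) (cm S xD tD) (cmI S xD tD)).map (C : A →+* _) *
    uM S (P.reflectionPerm c c) (-X)) ?_ x' τ' ?_
  · rw [mul_assoc, ← mul_assoc (Matrix.map _ _), ← Matrix.map_mul,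
      gA_mul_giA (cm_mul_cmI S xD tD), Matrix.map_one _ (map_zero _) (map_one _), one_mul,
      uM_mul_neg]
  · rw [Matrix.map_mul, ← hx']
    congr 1
    · have := uM_map S (φ : Polynomial A →+* K) (P.reflectionPerm c c) X
      refine this.trans ?_
      congr 1
      simp [φ, T]
    · have h4 : (cm S xD tD).map ψ = cellM S x τ := cellM_mapAlg S ψ xD tD
      rw [← h4]
      ext i j
      simp [φ, ψ]
      rfl

omit [IsDomain D] in
lemma LS_of_univ (c : idx) {k : Cl S R xD tD →ₐ[R] Polynomial (Cl S R xD tD)}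
    (hk : X3Abs.mt k = uM S c X *
      (gA (R := R) (cm S xD tD) (cmI S xD tD)).map (C : Cl S R xD tD →+* _)) (t : B) :
    LS S R xD tD (uM S c t) := by
  intro h
  have hc : ∀ a, Commute (h a) t := fun a => Commute.all _ _
  refine ⟨(Polynomial.eval₂AlgHom h t hc).comp k, ?_⟩
  rw [mt_comp, hk, Matrix.map_mul, mt_map_C]
  congr 1
  refine (uM_map S ((Polynomial.eval₂AlgHom h t hc : Polynomial (Cl S R xD tD) →ₐ[R] B) :
    Polynomial (Cl S R xD tD) →+* B) c X).trans ?_
  congr 1
  simp

lemma refl_refl (a : idx) :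
    P.reflectionPerm (P.reflectionPerm a a) (P.reflectionPerm a a) = a := by
  apply P.root.injective
  rw [P.root_reflectionPerm, P.reflection_apply_self, P.root_reflectionPerm,
    P.reflection_apply_self, neg_neg]

include U

lemma LS_pos {a : idx} (ha : a ∈ b.support) (t : B) : LS S R xD tD (uM S a t) := by
  obtain ⟨k, hk⟩ := exists_univ (R := R) S U (P.reflectionPerm a a) (by
    intro K _ t x τ h
    rw [refl_refl]
    exact cell_pos S ha t x τ (Units.mk0 _ h) rfl)
  rw [refl_refl] at hk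
  exact LS_of_univ S a hk t

lemma LS_neg {a : idx} (ha : a ∈ b.support) (t : B) :
    LS S R xD tD (uM S (P.reflectionPerm a a) t) := by
  obtain ⟨k, hk⟩ := exists_univ (R := R) S U a (by
    intro K _ t x τ h
    obtain ⟨x', hx'⟩ := cell_neg S ha t x τ
    exact ⟨x', τ, hx'⟩)
  exact LS_of_univ S _ hk t

omit [IsDomain D] in
/-- the torus preserves the closure -/
lemma LS_torus (t : TPt M B) : LS S R xD tD (tMat S.wt t) := by
  obtain ⟨A₁, D₁, _, _, _, _, φ, ιA, ιD, w, hφ, hc, hρ⟩ :=
    exists_torus_ring (R := R) M (Cl S R xD tD).val Subtype.val_injective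
  obtain ⟨x', hx'⟩ := cell_torus S (TPt.map φ w) (fun a => ιD (xD a)) (TPt.map ιD tD)
  have h3 : w * w⁻¹ = 1 := mul_inv_cancel w
  obtain ⟨k, hk⟩ := exists_point S U φ hφ (tMat S.wt w * (gA (cm S xD tD) (cmI S xD tD)).map ιA)
    ((giA (cm S xD tD) (cmI S xD tD)).map ιA * tMat S.wt w⁻¹) (by
      rw [mul_assoc, ← mul_assoc (Matrix.map _ _), ← Matrix.map_mul,
        gA_mul_giA (cm_mul_cmI S xD tD), Matrix.map_one _ (map_zero _) (map_one _), one_mul,
        tM_mul, h3, tM_one]) x' (TPt.map φ w * TPt.map ιD tD) (by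
      rw [← hx', Matrix.map_mul]
      congr 1
      · exact tMat_map S.wt (φ : A₁ →+* D₁) w
      · have h4 : (cm S xD tD).map ιD = cellM S (fun a => ιD (xD a)) (TPt.map ιD tD) :=
          cellM_mapAlg S ιD xD tD
        rw [← h4]
        ext i j
        exact congrArg (fun F => F (gA (cm S xD tD) (cmI S xD tD) i j)) hc)
  intro h
  obtain ⟨ρ, hρ1, hρ2⟩ := hρ h t
  refine ⟨ρ.comp k, ?_⟩
  rw [mt_comp, hk, Matrix.map_mul]
  congr 1
  · exact (tMat_map S.wt (ρ : A₁ →+* B) w).trans (congrArg (tMat S.wt) hρ2)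
  · ext i j
    exact congrArg (fun F => F (gA (cm S xD tD) (cmI S xD tD) i j)) hρ1

/-- all root elements preserve the closure -/
lemma LS_root [Finite idx] [P.IsReduced] (c : idx) : ∀ t : B, LS S R xD tD (uM S c t) := by
  have hconj : ∀ a ∈ b.support, ∀ c : idx, (∀ x : B, LS S R xD tD (uM S c x)) →
      ∀ x : B, LS S R xD tD (uM S (P.reflectionPerm a c) x) := by
    intro a ha c hc x
    obtain ⟨r, hr⟩ := S.conj a ha c
    have h1 := hr (B := B) ((((r⁻¹ : ℤˣ) : ℤ) : B) * x)
    have hrr : (((r : ℤˣ) : ℤ) : B) * ((((r⁻¹ : ℤˣ) : ℤ) : B) * x) = x := by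
      rw [← mul_assoc, ← Int.cast_mul, ← Units.val_mul, mul_inv_cancel, Units.val_one,
        Int.cast_one, one_mul]
    rw [hrr] at h1
    set n : Matrix S.J S.J B := uM S a 1 * uM S (P.reflectionPerm a a) (-1) * uM S a 1 with hn
    set n' : Matrix S.J S.J B := uM S a (-1) * uM S (P.reflectionPerm a a) 1 * uM S a (-1) with hn'
    have hnn : n * n' = 1 := by
      have e2 : uM S (P.reflectionPerm a a) (-1 : B) * uM S (P.reflectionPerm a a) 1 = 1 :=
        uM_neg_mul S _ 1
      calc n * n' = uM S a 1 * uM S (P.reflectionPerm a a) (-1) * (uM S a 1 * uM S a (-1)) *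
            uM S (P.reflectionPerm a a) 1 * uM S a (-1) := by
            rw [hn, hn']; simp only [mul_assoc]
        _ = uM S a 1 * (uM S (P.reflectionPerm a a) (-1) * uM S (P.reflectionPerm a a) 1) *
            uM S a (-1) := by
            rw [uM_mul_neg]; simp only [mul_assoc, one_mul]
        _ = 1 := by rw [e2, mul_one, uM_mul_neg]
    have h2 : uM S (P.reflectionPerm a c) x = n * uM S c ((((r⁻¹ : ℤˣ) : ℤ) : B) * x) * n' := by
      have h3 : n * uM S c ((((r⁻¹ : ℤˣ) : ℤ) : B) * x) = uM S (P.reflectionPerm a c) x * n := h1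
      rw [h3, mul_assoc, hnn, mul_one]
    rw [h2]
    have ln : LS S R xD tD n := ((LS_pos S U ha _).mul (LS_neg S U ha _)).mul (LS_pos S U ha _)
    have ln' : LS S R xD tD n' := ((LS_pos S U ha _).mul (LS_neg S U ha _)).mul (LS_pos S U ha _)
    exact (ln.mul (hc _)).mul ln'
  suffices h : (∀ x : B, LS S R xD tD (uM S c x)) ∧
      (∀ x : B, LS S R xD tD (uM S (P.reflectionPerm c c) x)) from h.1
  have hneg2 : ∀ a c : idx, P.reflectionPerm (P.reflectionPerm a c) (P.reflectionPerm a c) =
      P.reflectionPerm a (P.reflectionPerm c c) := by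
    intro a c
    apply P.root.injective
    rw [P.root_reflectionPerm, P.reflection_apply_self, P.root_reflectionPerm,
      P.root_reflectionPerm, P.root_reflectionPerm, P.reflection_apply_self, map_neg]
  induction c using b.induction_reflect with
  | h₀ c ih => exact ⟨ih.2, by rw [refl_refl]; exact ih.1⟩
  | h₁ c hc => exact ⟨LS_pos S U hc, LS_neg S U hc⟩
  | h₂ c a ih ha => exact ⟨hconj a ha c ih.1, by rw [hneg2]; exact hconj a ha _ ih.2⟩

lemma LS_list [Finite idx] [P.IsReduced] (L : List idx) (x : idx → B) :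
    LS S R xD tD (L.map fun a => uMat (S.E a) S.N (x a)).prod := by
  apply LS.prod
  intro m hm
  obtain ⟨a, _, rfl⟩ := List.mem_map.mp hm
  exact LS_root S U a (x a)

/-- cell matrices preserve the closure -/
lemma LS_cell [Finite idx] [P.IsReduced] (x : idx → B) (t : TPt M B) :
    LS S R xD tD (cellM S x t) :=
  ((LS_list S U _ x).mul (LS_torus S U t)).mul (LS_list S U _ x)

/-- inverses of cell matrices preserve the closure -/
lemma LS_cmI [Finite idx] [P.IsReduced] (x : idx → B) (t : TPt M B) :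
    LS S R xD tD (cmI S x t) :=
  ((LS_list S U _ (fun a => -x a)).mul (LS_torus S U _)).mul (LS_list S U _ (fun a => -x a))

omit [IsDomain D] in
lemma exists_e : ∃ e : Cl S R xD tD →ₐ[R] B, X3Abs.mt e = 1 := by
  obtain ⟨f, hf1, hf2⟩ := U (fun _ => (0 : B)) 1
  refine ⟨f.comp (Cl S R xD tD).val, ?_⟩
  have h : X3Abs.mt (f.comp (Cl S R xD tD).val) = cellM S (fun _ => (0 : B)) 1 := by
    have h2 : (cm S xD tD).map f = cellM S (fun _ => (0 : B)) 1 := by
      refine (cellM_mapAlg S f xD tD).trans ?_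
      rw [hf2]
      congr 1
      funext a
      exact hf1 a
    rw [← h2]
    rfl
  rw [h, cellM_eq, prodM_zero, prodM_zero, tM_one, one_mul, one_mul]

/-- **The closure of the cell is a group.** -/
theorem stab [Finite idx] [P.IsReduced] (hf : Module.Flat R (Cl S R xD tD)) :
    Stab R (cm S xD tD) (cmI S xD tD) where
  flat := hf
  hg := cm_mul_cmI S xD tD
  one := exists_e S U
  mul f h := by
    obtain ⟨k, hk⟩ := LS_cell S U (fun a => f (xD a)) (TPt.map f tD) h
    exact ⟨k, by rw [hk, ← cellM_mapAlg]; rfl⟩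
  inv := by
    obtain ⟨e, he⟩ := exists_e (R := R) (B := D) S U
    obtain ⟨k, hk⟩ := LS_cmI S U xD tD e
    exact ⟨k, by rw [hk, he, mul_one]⟩

end dom

end Groth.Agent.Redsub.H631.X3Stab
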